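import Cfsg.Agent.H528.EP.UB3

/-!
# S3499-VII-BT-COUNT (helper12), part 2: the counting theorem for arbitrary orders, one prime excluded

`ncard_np_le` : the counting theorem of helper59 / helper528 for `|B| < 60 ^ 60 ^ j` (`2 + j` generators), where the
members of `𝓜` have no characteristic elementary abelian `p`-subgroup `≠ 1`:
`|𝓜| ≤ C * c + |B| ^ 2 / 60 + E`, `E = |B| ^ (2 + j) / 3600`, or `E = 0` if `s ^ 2 ∤ |B|` for all `s ≥ 5`; `C` = number of classes of elementary abelian `s`-subgroups,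
`s ≠ p` (`ClsLe p C B`; `clsLe_gal` : `C = ∑_{s ≠ p} gal s (v_s |B|)`).
-/

set_option autoImplicit false
set_option linter.unusedSectionVars false

namespace Cfsg.Agent.H12.EP.BT

open Subgroup Cfsg.Agent.H59.EP Cfsg.Agent.H528.EP
open scoped commutatorElement

universe u

section gen

variable {S : Type*} [Group S] {n : ℕ}

/-- the values at `i` of the elements of `H` which are trivial on `J` -/
def val (H : Subgroup (Fin n → S)) (J : Finset (Fin n)) (i : Fin n) : Subgroup S where
  carrier := {s | ∃ h ∈ H, (∀ j ∈ J, h j = 1) ∧ h i = s}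
  one_mem' := ⟨1, H.one_mem, fun _ _ => rfl, rfl⟩
  mul_mem' := by
    rintro _ _ ⟨h, hh, h1, rfl⟩ ⟨k, hk, k1, rfl⟩
    exact ⟨h * k, H.mul_mem hh hk, fun j hj => by rw [Pi.mul_apply, h1 j hj, k1 j hj, one_mul], rfl⟩
  inv_mem' := by
    rintro _ ⟨h, hh, h1, rfl⟩
    exact ⟨h⁻¹, H.inv_mem hh, fun j hj => by rw [Pi.inv_apply, h1 j hj, inv_one], rfl⟩

theorem mem_val {H : Subgroup (Fin n → S)} {J : Finset (Fin n)} {i : Fin n} {s : S} :
    s ∈ val H J i ↔ ∃ h ∈ H, (∀ j ∈ J, h j = 1) ∧ h i = s := Iff.rfl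

theorem val_normal {H : Subgroup (Fin n → S)} (hD : ∀ s : S, (fun _ => s) ∈ H) (J : Finset (Fin n)) (i : Fin n) :
    (val H J i).Normal := by
  refine ⟨?_⟩
  rintro _ ⟨h, hh, h1, rfl⟩ s
  refine ⟨(fun _ => s) * h * (fun _ => s)⁻¹, H.mul_mem (H.mul_mem (hD s) hh) (H.inv_mem (hD s)), fun j hj => ?_, rfl⟩
  show s * h j * s⁻¹ = 1
  rw [h1 j hj, mul_one, mul_inv_cancel]

theorem val_top [hs : IsSimpleGroup S] (hn : ¬ ∀ a b : S, a * b = b * a) {H : Subgroup (Fin n → S)}
    (hD : ∀ s : S, (fun _ => s) ∈ H) (hsep : ∀ i k : Fin n, i ≠ k → ∃ c ∈ H, c i ≠ c k) (i : Fin n)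
    (J : Finset (Fin n)) (hi : i ∉ J) : val H J i = ⊤ := by
  classical
  induction J using Finset.induction_on with
  | empty =>
    rw [eq_top_iff']
    intro s
    exact ⟨_, hD s, fun j hj => absurd hj (Finset.notMem_empty j), rfl⟩
  | insert k J hk ih =>
    rw [Finset.mem_insert, not_or] at hi
    have h1 := ih hi.2
    -- a nontrivial value with trivial `k`-coordinate
    have h2 : val H {k} i = ⊤ := by
      refine ((val_normal hD {k} i).eq_bot_or_eq_top).resolve_left fun h => ?_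
      obtain ⟨c, hcH, hc⟩ := hsep i k hi.1
      have h3 : c i * (c k)⁻¹ ∈ val H {k} i := by
        refine ⟨c * (fun _ => c k)⁻¹, H.mul_mem hcH (H.inv_mem (hD _)), fun j hj => ?_, rfl⟩
        rw [Finset.mem_singleton] at hj
        subst hj
        show c j * (c j)⁻¹ = 1
        exact mul_inv_cancel _
      rw [h, mem_bot, mul_inv_eq_one] at h3
      exact hc h3
    refine ((val_normal hD (insert k J) i).eq_bot_or_eq_top).resolve_left fun h => hn fun s t => ?_
    obtain ⟨x, hx, hx1, rfl⟩ := mem_val.1 (h1 ▸ mem_top s : s ∈ val H J i)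
    obtain ⟨y, hy, hy1, rfl⟩ := mem_val.1 (h2 ▸ mem_top t : t ∈ val H {k} i)
    have h4 : x i * y i * (x i)⁻¹ * (y i)⁻¹ ∈ val H (insert k J) i := by
      refine ⟨x * y * x⁻¹ * y⁻¹, H.mul_mem (H.mul_mem (H.mul_mem hx hy) (H.inv_mem hx)) (H.inv_mem hy),
        fun j hj => ?_, rfl⟩
      show x j * y j * (x j)⁻¹ * (y j)⁻¹ = 1
      rw [Finset.mem_insert] at hj
      rcases hj with rfl | hj
      · rw [hy1 j (Finset.mem_singleton_self j), mul_one, mul_inv_cancel, inv_one, one_mul]
      · rw [hx1 j hj, one_mul, inv_one, mul_one, mul_inv_cancel]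
    rw [h, mem_bot, mul_inv_eq_one, mul_inv_eq_iff_eq_mul] at h4
    exact h4

/-- `2 + j` generators for `S ^ n`, `n ≤ |S| ^ j` -/
theorem exists_gen_pi [Finite S] [hs : IsSimpleGroup S] (hn : ¬ ∀ a b : S, a * b = b * a) {a b : S}
    (hab : closure ({a, b} : Set S) = ⊤) {j : ℕ} (hj : n ≤ Nat.card S ^ j) :
    ∃ f : Fin (2 + j) → (Fin n → S), closure (Set.range f) = ⊤ := by
  classical
  obtain ⟨c, hc⟩ : ∃ c : Fin n → (Fin j → S), Function.Injective c := by
    have := Fintype.ofFinite S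
    have h1 : Fintype.card (Fin n) ≤ Fintype.card (Fin j → S) := by
      rw [Fintype.card_fin, Fintype.card_fun, Fintype.card_fin, ← Nat.card_eq_fintype_card]
      exact hj
    exact ⟨_, (Function.Embedding.nonempty_of_card_le h1).some.injective⟩
  let f : Fin (2 + j) → (Fin n → S) := Fin.append ![fun _ => a, fun _ => b] (fun i k => c k i)
  refine ⟨f, ?_⟩
  set H := closure (Set.range f) with hH
  have ha : (fun _ => a : Fin n → S) ∈ H := by
    refine subset_closure ⟨Fin.castAdd j 0, ?_⟩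
    show Fin.append _ _ _ = _
    rw [Fin.append_left]
    rfl
  have hb : (fun _ => b : Fin n → S) ∈ H := by
    refine subset_closure ⟨Fin.castAdd j 1, ?_⟩
    show Fin.append _ _ _ = _
    rw [Fin.append_left]
    rfl
  have hcH : ∀ i : Fin j, (fun k => c k i) ∈ H := by
    intro i
    refine subset_closure ⟨Fin.natAdd 2 i, ?_⟩
    show Fin.append _ _ _ = _
    rw [Fin.append_right]
  have hD : ∀ s : S, (fun _ => s) ∈ H := by
    intro s
    let g : S →* (Fin n → S) := { toFun := fun s _ => s, map_one' := rfl, map_mul' := fun _ _ => rfl }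
    have h1 : closure ({a, b} : Set S) ≤ H.comap g := by
      rw [closure_le]
      rintro x (rfl | rfl)
      · exact ha
      · exact hb
    have h2 : s ∈ H.comap g := h1 (hab ▸ mem_top s)
    exact h2
  have hsep : ∀ i k : Fin n, i ≠ k → ∃ c ∈ H, c i ≠ c k := by
    intro i k hik
    by_contra hcon
    push Not at hcon
    apply hik
    apply hc
    funext l
    exact hcon _ (hcH l)
  rw [eq_top_iff']
  intro g
  have h1 : ∀ i : Fin n, Pi.mulSingle i (g i) ∈ H := by
    intro i
    have h2 := val_top hn hD hsep i (Finset.univ.erase i) (Finset.notMem_erase i _)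
    obtain ⟨h, hh, h3, h4⟩ := mem_val.1 (h2 ▸ mem_top (g i) : g i ∈ val H (Finset.univ.erase i) i)
    have h5 : h = Pi.mulSingle i (g i) := by
      funext j
      by_cases hj : j = i
      · subst hj
        rw [Pi.mulSingle_eq_same, h4]
      · rw [Pi.mulSingle_eq_of_ne hj, h3 j (Finset.mem_erase.2 ⟨hj, Finset.mem_univ j⟩)]
    rw [← h5]
    exact hh
  rw [← Finset.noncommProd_mulSingle g]
  exact Subgroup.noncommProd_mem _ _ fun i _ => h1 i

theorem closure_range_of_equiv {X Y : Type*} [Group X] [Group Y] (e : X ≃* Y) {d : ℕ} {f : Fin d → Y}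
    (h : closure (Set.range f) = ⊤) : closure (Set.range fun i => e.symm (f i)) = ⊤ := by
  have h1 : (closure (Set.range f)).map e.symm.toMonoidHom = closure (Set.range fun i => e.symm (f i)) := by
    rw [MonoidHom.map_closure, ← Set.range_comp]
    rfl
  rw [← h1, h, ← MonoidHom.range_eq_map]
  exact MonoidHom.range_eq_top.2 e.symm.surjective

end gen

section count

variable {B : Type u} [Group B] [Finite B]

/-- `d`-generated subgroups of order at least `k` with trivial centre -/
theorem ncard_dgen_le {d k : ℕ} (hk : 0 < k) {𝒮 : Set (Subgroup B)} (hs : ∀ X ∈ 𝒮, k ≤ Nat.card X ∧ center X = ⊥ ∧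
    ∃ f : Fin d → X, closure (Set.range f) = ⊤) : 𝒮.ncard ≤ Nat.card B ^ d / k := by
  classical
  rw [Nat.le_div_iff_mul_le hk]
  have hfin : 𝒮.Finite := Set.toFinite _
  let G : Subgroup B → Set (Fin d → B) := fun X => {p | closure (Set.range p) = X}
  have hG : ∀ X ∈ 𝒮, k ≤ (G X).ncard := by
    intro X hX
    obtain ⟨hXk, hzb, f, hf⟩ := hs X hX
    refine hXk.trans ?_
    have hcl : closure (Set.range fun i => (f i : B)) = X := by
      have h1 := congrArg (Subgroup.map X.subtype) hf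
      rw [MonoidHom.map_closure, ← Set.range_comp, ← MonoidHom.range_eq_map, X.range_subtype] at h1
      exact h1
    have hcomm : ∀ {g k x : B}, g * x * g⁻¹ = k * x * k⁻¹ → (k⁻¹ * g) * x = x * (k⁻¹ * g) := by
      intro g k x h2
      rw [mul_inv_eq_iff_eq_mul] at h2
      have h3 : k⁻¹ * (g * x) = x * k⁻¹ * g := by rw [h2]; group
      rw [mul_assoc k⁻¹ g, h3, mul_assoc]
    have hinj : Set.InjOn (fun (g : B) (i : Fin d) => g * (f i : B) * g⁻¹) (X : Set B) := by
      intro g hg k hk e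
      have h1 : ∀ x ∈ X, (k⁻¹ * g) * x = x * (k⁻¹ * g) := by
        have hle : X ≤ centralizer {k⁻¹ * g} := by
          rw [← hcl, closure_le]
          rintro _ ⟨i, rfl⟩
          rw [SetLike.mem_coe, mem_centralizer_singleton_iff]
          exact (hcomm (congrFun e i)).symm
        intro x hx
        exact (mem_centralizer_singleton_iff.1 (hle hx)).symm
      have hz : (⟨k⁻¹ * g, mul_mem (inv_mem hk) hg⟩ : X) ∈ center X := by
        rw [mem_center_iff]
        intro x
        exact Subtype.ext (h1 x x.2).symm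
      rw [hzb, mem_bot] at hz
      have h2 : k⁻¹ * g = 1 := Subtype.ext_iff.1 hz
      rw [inv_mul_eq_one] at h2
      exact h2.symm
    have hcard : Nat.card X = ((fun (g : B) (i : Fin d) => g * (f i : B) * g⁻¹) '' (X : Set B)).ncard := by
      rw [hinj.ncard_image]
      rfl
    rw [hcard]
    refine Set.ncard_le_ncard ?_ (Set.toFinite _)
    rintro _ ⟨g, hg, rfl⟩
    show closure (Set.range fun i => g * (f i : B) * g⁻¹) = X
    have h1 : (Set.range fun i => g * (f i : B) * g⁻¹) = (MulAut.conj g).toMonoidHom '' Set.range fun i => (f i : B) := by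
      rw [← Set.range_comp]
      rfl
    rw [h1, ← MonoidHom.map_closure, hcl]
    ext y
    constructor
    · rintro ⟨x, hx, rfl⟩
      exact X.mul_mem (X.mul_mem hg hx) (X.inv_mem hg)
    · intro hy
      refine ⟨g⁻¹ * y * g, X.mul_mem (X.mul_mem (X.inv_mem hg) hy) hg, ?_⟩
      show g * (g⁻¹ * y * g) * g⁻¹ = y
      group
  have hdis : (hfin.toFinset : Set (Subgroup B)).PairwiseDisjoint fun X => (Set.toFinite (G X)).toFinset := by
    intro X _ Y _ hne
    rw [Function.onFun, Finset.disjoint_left]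
    intro p hp hq
    rw [Set.Finite.mem_toFinset] at hp hq
    exact hne (hp.symm.trans hq)
  have h1 : (hfin.toFinset.biUnion fun X => (Set.toFinite (G X)).toFinset).card ≤ Nat.card (Fin d → B) := by
    have := Set.ncard_le_ncard (Set.subset_univ
      ((hfin.toFinset.biUnion fun X => (Set.toFinite (G X)).toFinset : Finset (Fin d → B)) : Set (Fin d → B)))
      (Set.toFinite _)
    rw [Set.ncard_coe_finset, Set.ncard_univ] at this
    exact this
  rw [Finset.card_biUnion hdis] at h1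
  have h3 : Nat.card (Fin d → B) = Nat.card B ^ d := by
    rw [Nat.card_fun, Nat.card_eq_fintype_card (α := Fin d), Fintype.card_fin]
  rw [h3] at h1
  refine le_trans ?_ h1
  rw [Set.ncard_eq_toFinset_card _ hfin, ← smul_eq_mul]
  apply Finset.card_nsmul_le_sum
  intro X hX
  rw [← Set.ncard_eq_toFinset_card _ (Set.toFinite _)]
  exact hG X (hfin.mem_toFinset.1 hX)

/-- **Characteristically simple groups** of order less than `60 ^ 60 ^ j`: elementary abelian, simple, or
`2 + j`-generated with trivial centre and of order at least 3600. -/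
theorem char_simple_j {X : Type u} [Group X] [Finite X] [Nontrivial X] (hg : TwoGen.{u})
    (hc : ∀ Y : Subgroup X, Y.Characteristic → Y = ⊥ ∨ Y = ⊤) {j : ℕ} (hX : Nat.card X < 60 ^ 60 ^ j) :
    (∃ s : ℕ, s.Prime ∧ s ∣ Nat.card X ∧ ElAb s (⊤ : Subgroup X)) ∨ (IsSimpleGroup X ∧ ¬ Group.IsSolvable X) ∨
      ((∃ s : ℕ, s.Prime ∧ 5 ≤ s ∧ s ^ 2 ∣ Nat.card X) ∧ 3600 ≤ Nat.card X ∧ center X = ⊥ ∧
        ∃ f : Fin (2 + j) → X, closure (Set.range f) = ⊤) := by
  by_cases hcomm : ∀ a b : X, a * b = b * a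
  · left
    obtain ⟨s, hs, hsd⟩ := Nat.exists_prime_and_dvd (n := Nat.card X) (by
      have := Finite.one_lt_card (α := X)
      omega)
    have : Fact s.Prime := ⟨hs⟩
    obtain ⟨x, hx⟩ := exists_prime_orderOf_dvd_card' s hsd
    let Y : Subgroup X :=
      { carrier := {y | y ^ s = 1}
        one_mem' := one_pow s
        mul_mem' := fun {a b} ha hb => by
          show (a * b) ^ s = 1
          rw [(show Commute a b from hcomm a b).mul_pow, show a ^ s = 1 from ha, show b ^ s = 1 from hb, one_mul]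
        inv_mem' := fun {a} ha => by
          show a⁻¹ ^ s = 1
          rw [inv_pow, show a ^ s = 1 from ha, inv_one] }
    have hY : Y.Characteristic := by
      rw [characteristic_iff_map_le]
      rintro φ _ ⟨y, hy, rfl⟩
      show (φ y) ^ s = 1
      rw [← map_pow, show y ^ s = 1 from hy, map_one]
    refine ⟨s, hs, hsd, fun a _ b _ => hcomm a b, ?_⟩
    rcases hc Y hY with h | h
    · exfalso
      have h1 : x ∈ Y := by
        show x ^ s = 1
        rw [← hx, pow_orderOf_eq_one]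
      rw [h, mem_bot] at h1
      rw [h1, orderOf_one] at hx
      exact hs.one_lt.ne hx
    · intro a _
      have h1 : a ∈ Y := by rw [h]; exact mem_top _
      exact h1
  · right
    obtain ⟨T, _, m, hTf, hT, hm0, ⟨e⟩⟩ := exists_pi hc
    have hTc : ¬ ∀ a b : T, a * b = b * a := by
      intro h
      apply hcomm
      intro a b
      apply e.injective
      rw [map_mul, map_mul]
      funext i
      exact h _ _
    have hTs : ¬ Group.IsSolvable T := by
      intro hs
      apply hTc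
      intro a b
      exact IsSimpleGroup.comm_iff_isSolvable.2 hs a b
    have h60 : 60 ≤ Nat.card T := Cfsg.Agent.H168.NoSolv.sixty_le hTs
    have hcard : Nat.card X = Nat.card T ^ m := by
      rw [Nat.card_congr e.toEquiv, Nat.card_fun, Nat.card_eq_fintype_card (α := Fin m), Fintype.card_fin]
    rcases Nat.lt_or_ge m 2 with hm2 | hm2
    · left
      have hm1 : m = 1 := by omega
      subst hm1
      have e1 : X ≃* T := e.trans (MulEquiv.piUnique fun _ : Fin 1 => T)
      refine ⟨e1.isSimpleGroup, fun h => hTs ?_⟩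
      exact Group.isSolvable_of_isSolvable_injective (f := e1.symm.toMonoidHom) e1.symm.injective
    right
    have hm : m ≤ Nat.card T ^ j := by
      by_contra hlt
      push Not at hlt
      have h2 : 60 ^ j ≤ m := (Nat.pow_le_pow_left h60 j).trans hlt.le
      have h1 : 60 ^ 60 ^ j ≤ Nat.card T ^ m :=
        (Nat.pow_le_pow_left h60 _).trans (Nat.pow_le_pow_right (by omega) h2)
      omega
    obtain ⟨a, b, hab⟩ := hg T
    obtain ⟨f, hf⟩ := exists_gen_pi hTc hab hm
    refine ⟨?_, ?_, ?_, _, closure_range_of_equiv e hf⟩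
    · obtain ⟨s, hs, hs5, hsd⟩ := exists_prime_ge_five hTs
      refine ⟨s, hs, hs5, ?_⟩
      rw [hcard]
      exact (pow_dvd_pow_of_dvd hsd 2).trans (pow_dvd_pow _ hm2)
    · rw [hcard]
      calc 3600 = 60 ^ 2 := by norm_num
        _ ≤ Nat.card T ^ 2 := Nat.pow_le_pow_left h60 2
        _ ≤ Nat.card T ^ m := Nat.pow_le_pow_right (by omega) hm2
    · rcases hc (center X) inferInstance with h1 | h1
      · exact h1
      · exfalso
        apply hcomm
        intro a b
        have h2 : b ∈ center X := by rw [h1]; exact mem_top _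
        exact mem_center_iff.1 h2 a

/-- `∑_{s ∣ n, s ≠ p} gal s (v_s n)` -/
def galSumNe (p n : ℕ) : ℕ := ∑ s ∈ n.primeFactors.erase p, gal s (n.factorization s)

/-- the elementary abelian `s`-subgroups `≠ 1` of `B`, `s ≠ p` prime, fall into at most `C` classes -/
def ClsLe (p C : ℕ) (B : Type*) [Group B] : Prop := ∃ 𝓔 : Set (Subgroup B), 𝓔.ncard ≤ C ∧
  ∀ (X : Subgroup B) (s : ℕ), s.Prime → s ≠ p → ElAb s X → X ≠ ⊥ →
    ∃ E ∈ 𝓔, ∃ g : B, X = E.map (MulAut.conj g).toMonoidHom

omit [Finite B] in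
theorem ClsLe.mono {p C C' : ℕ} (h : ClsLe p C B) (hC : C ≤ C') : ClsLe p C' B := by
  obtain ⟨𝓔, h1, h2⟩ := h
  exact ⟨𝓔, h1.trans hC, h2⟩

/-- by Sylow's theorem -/
theorem clsLe_gal (p : ℕ) : ClsLe p (galSumNe p (Nat.card B)) B := by
  classical
  have key : ∀ s : ℕ, s.Prime → ∃ 𝓔 : Set (Subgroup B), 𝓔.ncard ≤ gal s ((Nat.card B).factorization s) ∧
      ∀ X : Subgroup B, ElAb s X → X ≠ ⊥ → ∃ E ∈ 𝓔, ∃ g : B, X = E.map (MulAut.conj g).toMonoidHom := by
    intro s hs
    have : Fact s.Prime := ⟨hs⟩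
    let P : Sylow s B := default
    have hP : Nat.card (P : Subgroup B) = s ^ (Nat.card B).factorization s := P.card_eq_multiplicity
    refine ⟨{E : Subgroup B | E ≤ (P : Subgroup B) ∧ ElAb s E ∧ E ≠ ⊥}, ncard_elab_le hs hP, ?_⟩
    rintro X h1 h2
    have hps : IsPGroup s X := by
      rintro ⟨y, hy⟩
      refine ⟨1, Subtype.ext ?_⟩
      rw [pow_one]
      exact h1.exp y hy
    obtain ⟨R, hR⟩ := hps.exists_le_sylow
    obtain ⟨g, hg⟩ := MulAction.exists_smul_eq B R P
    refine ⟨X.map (MulAut.conj g).toMonoidHom, ⟨?_, ⟨?_, ?_⟩, ?_⟩, g⁻¹, ?_⟩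
    · rw [← hg, Sylow.coe_subgroup_smul]
      rintro _ ⟨x, hx, rfl⟩
      exact Subgroup.smul_mem_pointwise_smul _ _ _ (hR hx)
    · rintro _ ⟨a, ha, rfl⟩ _ ⟨b, hb, rfl⟩
      rw [← map_mul, ← map_mul, h1.comm a ha b hb]
    · rintro _ ⟨a, ha, rfl⟩
      rw [← map_pow, h1.exp a ha, map_one]
    · intro e
      rw [Subgroup.map_eq_bot_iff_of_injective _ (MulAut.conj g).injective] at e
      exact h2 e
    · rw [Subgroup.map_map]
      conv_lhs => rw [← Subgroup.map_id X]
      congr 1
      ext y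
      show y = g⁻¹ * (g * y * g⁻¹) * g⁻¹⁻¹
      group
  choose! 𝓔 h1 h2 using key
  refine ⟨⋃ s ∈ (Nat.card B).primeFactors.erase p, 𝓔 s, ?_, ?_⟩
  · have hun : ∀ I : Finset ℕ, (⋃ s ∈ I, 𝓔 s).ncard ≤ ∑ s ∈ I, (𝓔 s).ncard := by
      intro I
      induction I using Finset.induction_on with
      | empty => simp
      | insert j I hj ih =>
        rw [Finset.sum_insert hj, Finset.set_biUnion_insert]
        exact (Set.ncard_union_le _ _).trans (Nat.add_le_add_left ih _)
    exact (hun _).trans (Finset.sum_le_sum fun s hs =>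
      h1 s (Nat.prime_of_mem_primeFactors (Finset.mem_of_mem_erase hs)))
  · intro X s hs hsp hel hne
    obtain ⟨E, hE, g, hg⟩ := h2 s hs X hel hne
    refine ⟨E, ?_, g, hg⟩
    simp only [Set.mem_iUnion]
    refine ⟨s, Finset.mem_erase.2 ⟨hsp, Nat.mem_primeFactors.2 ⟨hs, ?_, Nat.card_pos.ne'⟩⟩, hE⟩
    obtain ⟨y, hy, hy1⟩ : ∃ y ∈ X, y ≠ 1 := by
      by_contra hcon
      push Not at hcon
      exact hne ((Subgroup.eq_bot_iff_forall _).2 hcon)
    have : Fact s.Prime := ⟨hs⟩
    have h3 : orderOf y = s := orderOf_eq_prime (hel.exp y hy) hy1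
    rw [← h3]
    exact orderOf_dvd_natCard y

/-- **Counting theorem**, the prime `p` excluded. -/
theorem ncard_np_le (hg : TwoGen.{u}) {j : ℕ} (hB : Nat.card B < 60 ^ 60 ^ j) {p C : ℕ} (hC : ClsLe p C B) {E : ℕ}
    (hE : (∃ s : ℕ, s.Prime ∧ 5 ≤ s ∧ s ^ 2 ∣ Nat.card B) → Nat.card B ^ (2 + j) / 3600 ≤ E)
    {𝓜 : Set (Subgroup B)} {c : ℕ} (hc : ∀ M ∈ 𝓜, M.index ≤ c) (hnt : ∀ M ∈ 𝓜, M ≠ ⊥)
    (hch : ∀ M ∈ 𝓜, ∀ K : Subgroup M, K.Characteristic → K ≠ ⊥ → ∀ b : B,
      (∀ k ∈ K.map M.subtype, b * k * b⁻¹ ∈ K.map M.subtype) → b ∈ M)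
    (hnp : ∀ M ∈ 𝓜, ∀ K : Subgroup M, K.Characteristic → K ≠ ⊥ → ¬ ElAb p K) :
    𝓜.ncard ≤ C * c + Nat.card B ^ 2 / 60 + E := by
  classical
  -- the minimal characteristic subgroup
  have key : ∀ M ∈ 𝓜, ∃ X : Subgroup B, normalizer (X : Set B) = M ∧
      ((∃ s : ℕ, s.Prime ∧ s ≠ p ∧ ElAb s X ∧ X ≠ ⊥) ∨
        ((IsSimpleGroup X ∧ ¬ Group.IsSolvable X) ∧ ∃ a b : X, closure ({a, b} : Set X) = ⊤) ∨
        ((∃ s : ℕ, s.Prime ∧ 5 ≤ s ∧ s ^ 2 ∣ Nat.card B) ∧ 3600 ≤ Nat.card X ∧ center X = ⊥ ∧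
          ∃ f : Fin (2 + j) → X, closure (Set.range f) = ⊤)) := by
    intro M hM
    have hMn : Nontrivial M := (Subgroup.nontrivial_iff_ne_bot M).2 (hnt M hM)
    obtain ⟨Y, hY, hYne, hYmin⟩ := exists_min_char (B := M)
    have hYn : Nontrivial Y := (Subgroup.nontrivial_iff_ne_bot Y).2 hYne
    have hYc : ∀ Z : Subgroup Y, Z.Characteristic → Z = ⊥ ∨ Z = ⊤ := by
      intro Z hZ
      by_cases hZb : Z = ⊥
      · exact Or.inl hZb
      right
      have h1 := hYmin (Z.map Y.subtype) char_trans (by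
        rintro _ ⟨z, _, rfl⟩
        exact z.2) (by
        intro e
        rw [Subgroup.map_eq_bot_iff_of_injective _ Y.subtype_injective] at e
        exact hZb e)
      rw [Subgroup.eq_top_iff']
      intro y
      have h2 : (y : M) ∈ Z.map Y.subtype := by rw [h1]; exact y.2
      obtain ⟨z, hz, e⟩ := h2
      have : z = y := Subtype.ext e
      rw [← this]
      exact hz
    set X : Subgroup B := Y.map M.subtype with hX
    have hcard : Nat.card X = Nat.card Y :=
      (Nat.card_congr (Y.equivMapOfInjective _ M.subtype_injective).toEquiv).symm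
    have e : Y ≃* X := Y.equivMapOfInjective _ M.subtype_injective
    have hXB : Nat.card Y ∣ Nat.card B := by
      rw [← hcard]
      exact Subgroup.card_subgroup_dvd_card X
    have hXne : X ≠ ⊥ := by
      intro e
      rw [hX, Subgroup.map_eq_bot_iff_of_injective _ M.subtype_injective] at e
      exact hYne e
    refine ⟨X, ?_, ?_⟩
    · apply le_antisymm
      · intro b hb
        exact hch M hM Y hY hYne b fun k hk => (mem_normalizer_iff.1 hb k).1 hk
      · intro m hm
        have hn : Y.Normal := inferInstance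
        rw [mem_normalizer_iff]
        have key : ∀ m ∈ M, ∀ k ∈ X, m * k * m⁻¹ ∈ X := by
          rintro m hm _ ⟨k, hk, rfl⟩
          exact ⟨_, hn.conj_mem k hk ⟨m, hm⟩, rfl⟩
        intro k
        refine ⟨key m hm k, fun h => ?_⟩
        have := key m⁻¹ (M.inv_mem hm) _ h
        have e : m⁻¹ * (m * k * m⁻¹) * m⁻¹⁻¹ = k := by group
        rwa [e] at this
    · have hYB : Nat.card Y < 60 ^ 60 ^ j := (Nat.le_of_dvd Nat.card_pos hXB).trans_lt hB
      rcases char_simple_j hg hYc hYB with ⟨s, hs, hsd, hel⟩ | ⟨h1, h2⟩ | ⟨⟨s, hs, hs5, hsd⟩, h1, h2, f, h3⟩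
      · left
        have hsp : s ≠ p := by
          rintro rfl
          refine hnp M hM Y hY hYne ⟨fun a ha b hb => ?_, fun a ha => ?_⟩
          · exact Subtype.ext_iff.1 (hel.comm ⟨a, ha⟩ (mem_top _) ⟨b, hb⟩ (mem_top _))
          · exact Subtype.ext_iff.1 (hel.exp ⟨a, ha⟩ (mem_top _))
        refine ⟨s, hs, hsp, ⟨?_, ?_⟩, hXne⟩
        · rintro _ ⟨a, ha, rfl⟩ _ ⟨b, hb, rfl⟩
          have := hel.comm ⟨a, ha⟩ (mem_top _) ⟨b, hb⟩ (mem_top _)
          have h1 : a * b = b * a := Subtype.ext_iff.1 this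
          rw [← map_mul, ← map_mul, h1]
        · rintro _ ⟨a, ha, rfl⟩
          have := hel.exp ⟨a, ha⟩ (mem_top _)
          have h1 : a ^ s = 1 := Subtype.ext_iff.1 this
          rw [← map_pow, h1, map_one]
      · right; left
        have hXs : IsSimpleGroup X := e.symm.isSimpleGroup
        refine ⟨⟨hXs, fun h => h2 ?_⟩, hg X⟩
        exact Group.isSolvable_of_isSolvable_injective (f := e.toMonoidHom) e.injective
      · right; right
        refine ⟨⟨s, hs, hs5, hsd.trans hXB⟩, by rw [hcard]; exact h1, ?_, _, closure_range_of_equiv e.symm h3⟩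
        rw [Subgroup.eq_bot_iff_forall]
        intro x hx
        have h4 : e.symm x ∈ center Y := by
          rw [mem_center_iff] at hx ⊢
          intro y
          apply e.injective
          rw [map_mul, map_mul, MulEquiv.apply_symm_apply]
          exact hx _
        rw [h2, mem_bot] at h4
        exact (MulEquiv.map_eq_one_iff e.symm).1 h4
  choose! f hf1 hf2 using key
  have hinj : Set.InjOn f 𝓜 := by
    intro M hM N hN e
    rw [← hf1 M hM, ← hf1 N hN, e]
  rw [← hinj.ncard_image]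
  have hsub : f '' 𝓜 ⊆ ({X : Subgroup B | (∃ s : ℕ, s.Prime ∧ s ≠ p ∧ ElAb s X ∧ X ≠ ⊥) ∧
      (normalizer (X : Set B)).index ≤ c} ∪
      {X : Subgroup B | (IsSimpleGroup X ∧ ¬ Group.IsSolvable X) ∧ ∃ a b : X, closure ({a, b} : Set X) = ⊤}) ∪
      {X : Subgroup B | (∃ s : ℕ, s.Prime ∧ 5 ≤ s ∧ s ^ 2 ∣ Nat.card B) ∧ 3600 ≤ Nat.card X ∧ center X = ⊥ ∧
        ∃ f : Fin (2 + j) → X, closure (Set.range f) = ⊤} := by
    rintro _ ⟨M, hM, rfl⟩
    rcases hf2 M hM with h1 | h | h
    · left; left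
      exact ⟨h1, by rw [hf1 M hM]; exact hc M hM⟩
    · left; right
      exact h
    · right
      exact h
  refine (Set.ncard_le_ncard hsub (Set.toFinite _)).trans ((Set.ncard_union_le _ _).trans (Nat.add_le_add
    ((Set.ncard_union_le _ _).trans (Nat.add_le_add ?_ ?_)) ?_))
  · obtain ⟨𝓔, h1, h2⟩ := hC
    refine (ncard_le_mul (𝓔 := 𝓔) ?_ (fun X hX => hX.2)).trans (Nat.mul_le_mul_right _ h1)
    rintro X ⟨⟨s, hs, hsp, hel, hne⟩, -⟩
    exact h2 X s hs hsp hel hne
  · exact ncard_simple_le (fun X hX => hX.1) (fun X hX => hX.2)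
  · by_cases h5 : ∃ s : ℕ, s.Prime ∧ 5 ≤ s ∧ s ^ 2 ∣ Nat.card B
    · exact (ncard_dgen_le (by norm_num) (fun X hX => hX.2)).trans (hE h5)
    · have h0 : {X : Subgroup B | (∃ s : ℕ, s.Prime ∧ 5 ≤ s ∧ s ^ 2 ∣ Nat.card B) ∧ 3600 ≤ Nat.card X ∧
          center X = ⊥ ∧ ∃ f : Fin (2 + j) → X, closure (Set.range f) = ⊤} = ∅ := by
        rw [Set.eq_empty_iff_forall_notMem]
        intro X hX
        exact h5 hX.1
      rw [h0, Set.ncard_empty]
      exact Nat.zero_le _

end count

/-- `p`-groups of order at most `p ^ a` are generated by `a` elements -/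
theorem exists_gen_pgroup {p : ℕ} [Fact p.Prime] {R : Type*} [Group R] [Finite R] (hR : IsPGroup p R) {a : ℕ}
    (ha : Nat.card R ≤ p ^ a) : ∃ f : Fin a → R, closure (Set.range f) = ⊤ := by
  have hp : p.Prime := Fact.out
  have key : ∀ k, ∃ f : Fin k → R, closure (Set.range f) = ⊤ ∨ p ^ k ≤ Nat.card (closure (Set.range f)) := by
    intro k
    induction k with
    | zero => exact ⟨Fin.elim0, Or.inr (by rw [pow_zero]; exact Nat.card_pos)⟩
    | succ k ih =>
      obtain ⟨f, hf⟩ := ih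
      by_cases htop : closure (Set.range f) = ⊤
      · refine ⟨Fin.snoc f 1, Or.inl ?_⟩
        rw [eq_top_iff, ← htop]
        apply Subgroup.closure_mono
        rintro _ ⟨i, rfl⟩
        exact ⟨i.castSucc, by rw [Fin.snoc_castSucc]⟩
      obtain ⟨x, hx⟩ : ∃ x, x ∉ closure (Set.range f) := by
        by_contra hcon
        push Not at hcon
        exact htop ((Subgroup.eq_top_iff' _).2 hcon)
      refine ⟨Fin.snoc f x, Or.inr ?_⟩
      have hle : closure (Set.range f) ≤ closure (Set.range (Fin.snoc f x : Fin (k + 1) → R)) := by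
        apply Subgroup.closure_mono
        rintro _ ⟨i, rfl⟩
        exact ⟨i.castSucc, by rw [Fin.snoc_castSucc]⟩
      have hxm : x ∈ closure (Set.range (Fin.snoc f x : Fin (k + 1) → R)) :=
        subset_closure ⟨Fin.last k, by rw [Fin.snoc_last]⟩
      have hne : closure (Set.range f) ≠ closure (Set.range (Fin.snoc f x : Fin (k + 1) → R)) := by
        intro e
        rw [← e] at hxm
        exact hx hxm
      obtain ⟨m, hm⟩ := (IsPGroup.iff_card).1 (hR.to_subgroup (closure (Set.range f)))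
      obtain ⟨m', hm'⟩ := (IsPGroup.iff_card).1 (hR.to_subgroup (closure (Set.range (Fin.snoc f x : Fin (k + 1) → R))))
      have h1 := hf.resolve_left htop
      rw [hm] at h1
      have hkm : k ≤ m := (Nat.pow_le_pow_iff_right hp.one_lt).1 h1
      have hlt : m < m' := by
        by_contra hge
        push Not at hge
        apply hne
        apply Subgroup.eq_of_le_of_card_ge hle
        rw [hm, hm']
        exact Nat.pow_le_pow_right hp.pos hge
      rw [hm']
      exact Nat.pow_le_pow_right hp.pos (by omega)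
  obtain ⟨f, hf⟩ := key a
  refine ⟨f, ?_⟩
  rcases hf with hf | hf
  · exact hf
  · apply Subgroup.eq_top_of_card_eq
    have h1 := Subgroup.card_le_card_group (closure (Set.range f))
    omega

/-- the number of `p`-subgroups of order at most `p ^ a` -/
theorem ncard_pgroup_le {B : Type*} [Group B] [Finite B] {p : ℕ} [Fact p.Prime] {a : ℕ} {𝒮 : Set (Subgroup B)}
    (h : ∀ X ∈ 𝒮, IsPGroup p X ∧ Nat.card X ≤ p ^ a) : 𝒮.ncard ≤ Nat.card B ^ a := by
  classical
  have h1 : ∀ X ∈ 𝒮, ∃ f : Fin a → B, closure (Set.range f) = X := by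
    intro X hX
    obtain ⟨f, hf⟩ := exists_gen_pgroup (h X hX).1 (h X hX).2
    refine ⟨fun i => f i, ?_⟩
    have h2 := congrArg (Subgroup.map X.subtype) hf
    rw [MonoidHom.map_closure, ← Set.range_comp, ← MonoidHom.range_eq_map, X.range_subtype] at h2
    exact h2
  choose! f hf using h1
  have hinj : Set.InjOn f 𝒮 := by
    intro X hX Y hY e
    rw [← hf X hX, ← hf Y hY, e]
  have h2 := Set.ncard_le_ncard (Set.subset_univ (f '' 𝒮)) (Set.toFinite _)
  rw [hinj.ncard_image, Set.ncard_univ, Nat.card_fun, Nat.card_eq_fintype_card (α := Fin a), Fintype.card_fin] at h2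
  exact h2

end Cfsg.Agent.H12.EP.BT
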