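import Cfsg.Agent.H12.EP.Pars
import Cfsg.Agent.H12.EP.GenJ
import Cfsg.Agent.H419.EP.Soc

/-!
# S3499-VII-BT-COUNT (helper12), part 3: own characteristic

`LieSoc p A N` : `N` is the simple nonabelian socle of `A` and has canonical parabolic subgroups for `p` (Borel–Tits).

* `par_M0` : if `M0 = A ⊓ cj x A` has a `Γ_x`-invariant `p`-subgroup meeting `N`, then `M0 ⊓ N` is a canonical parabolic;
* `EPT.ncard_own` : `#M0 ≤ |A| + |A| ^ a + C * (|A| / 6) + |A| ^ 2 / 60 + E`, `E = |A| ^ (2 + j) / 3600` or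
  `E = 0` if `s ^ 2 ∤ |A|` for all primes `s ≥ 5` (`p ^ (a + 1) |N| ∤ |A|`, `|A| < 60 ^ 60 ^ j`,
  `ClsLe p C A`: at most `C` classes of elementary abelian `s`-subgroups, `s ≠ p`);
* `EPT.index_own` : the bound for the index.
-/

set_option autoImplicit false
set_option linter.unusedSectionVars false

namespace Cfsg.Agent.H12.EP.BT

open Subgroup Cfsg.Agent.H284 Cfsg.Agent.H59.EP

universe u

/-- `N` is the simple nonabelian socle of `A`, with canonical parabolic subgroups. -/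
structure LieSoc (p : ℕ) {Q : Type*} [Group Q] (A N : Subgroup Q) : Prop where
  le : N ≤ A
  nor : ∀ a ∈ A, ∀ x ∈ N, a * x * a⁻¹ ∈ N
  cen : ∀ a ∈ A, (∀ x ∈ N, a * x = x * a) → a = 1
  simple : IsSimpleGroup N
  nab : ¬ ∀ a ∈ N, ∀ b ∈ N, a * b = b * a
  pars : ∃ 𝓟 : Set (Subgroup N), Pars p N 𝓟

variable {Q : Type u} [Group Q] [Finite Q] {A N : Subgroup Q} {Γ : Subgroup (MulAut Q)} {p : ℕ}

namespace LieSoc

/-- a simple socle is invariant -/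
theorem inv (hS : LieSoc p A N) (h : EPT A Γ) : ∀ σ ∈ Γ, ∀ x ∈ N, σ x ∈ N := by
  have := hS.simple
  intro σ hσ
  have hσ' : σ⁻¹ ∈ Γ := inv_mem hσ
  have hN'A : N.map σ.toMonoidHom ≤ A := by
    rintro _ ⟨x, hx, rfl⟩
    exact (h.inv σ hσ x).2 (hS.le hx)
  have hN'n : ∀ a ∈ A, ∀ y ∈ N.map σ.toMonoidHom, a * y * a⁻¹ ∈ N.map σ.toMonoidHom := by
    rintro a ha _ ⟨x, hx, rfl⟩
    refine ⟨σ⁻¹ a * x * (σ⁻¹ a)⁻¹, hS.nor _ ((h.inv _ hσ' a).2 ha) x hx, ?_⟩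
    show σ (σ⁻¹ a * x * (σ⁻¹ a)⁻¹) = a * σ x * a⁻¹
    rw [map_mul, map_mul, map_inv, MulAut.apply_inv_self]
  have hnor : ((N.map σ.toMonoidHom).subgroupOf N).Normal := by
    constructor
    intro y hy g
    rw [mem_subgroupOf] at hy ⊢
    exact hN'n g (hS.le g.2) y hy
  rcases hnor.eq_bot_or_eq_top with h1 | h1
  · exfalso
    have hdis : ∀ y : Q, y ∈ N → y ∈ N.map σ.toMonoidHom → y = 1 := by
      intro y hy hy'
      have : (⟨y, hy⟩ : N) ∈ (N.map σ.toMonoidHom).subgroupOf N := mem_subgroupOf.2 hy'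
      rw [h1, mem_bot] at this
      exact Subtype.ext_iff.1 this
    obtain ⟨x, hx⟩ := exists_ne (1 : N)
    apply hx
    have h2 : σ x = 1 := by
      apply hS.cen _ (hN'A ⟨x, x.2, rfl⟩)
      intro z hz
      have h3 : σ x * z * (σ x)⁻¹ * z⁻¹ = 1 := by
        apply hdis
        · exact N.mul_mem (hS.nor _ (hN'A ⟨x, x.2, rfl⟩) z hz) (N.inv_mem hz)
        · have h4 : σ x * z * (σ x)⁻¹ * z⁻¹ = σ x * (z * (σ x)⁻¹ * z⁻¹) := by group
          rw [h4]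
          exact mul_mem ⟨x, x.2, rfl⟩ (hN'n z (hS.le hz) _ (inv_mem ⟨x, x.2, rfl⟩))
      show σ x * z = z * σ x
      have h5 : σ x * z = σ x * z * (σ x)⁻¹ * z⁻¹ * (z * σ x) := by group
      rw [h5, h3, one_mul]
    apply Subtype.ext
    rw [← map_one σ] at h2
    exact σ.injective h2
  · have h2 : N ≤ N.map σ.toMonoidHom := by
      intro x hx
      have : (⟨x, hx⟩ : N) ∈ (N.map σ.toMonoidHom).subgroupOf N := by rw [h1]; exact mem_top _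
      exact mem_subgroupOf.1 this
    have h3 : N = N.map σ.toMonoidHom :=
      Subgroup.eq_of_le_of_card_ge h2 (Nat.card_le_card_of_surjective
        (fun x : N => (⟨σ x, x, x.2, rfl⟩ : N.map σ.toMonoidHom)) (by
          rintro ⟨_, x, hx, rfl⟩
          exact ⟨⟨x, hx⟩, rfl⟩))
    intro x hx
    rw [h3]
    exact ⟨x, hx, rfl⟩

/-- **Borel–Tits** -/
theorem par_M0 (hS : LieSoc p A N) (h : EPT A Γ) {𝓟 : Set (Subgroup N)} (hP : Pars p N 𝓟) {x : Q} (hx : x ∉ A)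
    {R : Subgroup Q} (hR : R ≤ A ⊓ cj x A) (hRn : ∀ σ ∈ Γ, x⁻¹ * σ x ∈ A → ∀ k ∈ R, σ k ∈ R) (hRp : IsPGroup p R)
    (hRN : R ⊓ N ≠ ⊥) : ∃ P ∈ 𝓟, A ⊓ cj x A ⊓ N = P.map N.subtype := by
  have hsim := hS.simple
  have hinv := hS.inv h
  -- `M0` acts by conjugation inside `Γ_x`
  have hconj : ∀ m ∈ A ⊓ cj x A, MulAut.conj m ∈ Γ ∧ x⁻¹ * MulAut.conj m x ∈ A := fun m hm =>
    ⟨(h.conj m).2 (mem_inf.1 hm).1, (h.conj_stab (mem_inf.1 hm).1).2 (mem_inf.1 hm).2⟩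
  obtain ⟨P, hP𝓟, hKP, hPφ⟩ := hP.exists_mem ((A ⊓ cj x A).subgroupOf N) (R.subgroupOf N)
    (fun y hy => hR hy) (by
      rintro ⟨k, hkN⟩ hk ⟨v, hvN⟩ hv
      have h1 := hconj k hk
      exact hRn _ h1.1 h1.2 v hv) (hRp.comap_subtype) (by
      rw [Ne, Subgroup.subgroupOf_eq_bot, disjoint_iff]
      exact hRN)
  refine ⟨P, hP𝓟, ?_⟩
  -- `Γ_x` fixes `P`
  have hPx : ∀ σ ∈ Γ, x⁻¹ * σ x ∈ A → ∀ y ∈ P.map N.subtype, σ y ∈ P.map N.subtype := by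
    intro σ hσ hσx
    let f : N →* N := (σ.toMonoidHom.comp N.subtype).codRestrict N (fun y => hinv σ hσ y y.2)
    have hf : Function.Injective f := by
      intro y z e
      have e' : σ y = σ z := Subtype.ext_iff.1 e
      exact Subtype.ext (σ.injective e')
    let τ : MulAut N := MulEquiv.ofBijective f (Finite.injective_iff_bijective.1 hf)
    have hτ : ∀ y : N, ((τ y : N) : Q) = σ y := fun y => rfl
    rintro _ ⟨y, hy, rfl⟩
    refine ⟨τ y, hPφ τ ?_ y hy, hτ y⟩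
    intro k hk
    rw [mem_subgroupOf, hτ]
    exact h.stab_M0 hσ hσx hk
  let L : Subgroup (MulAut Q) :=
    { carrier := {σ | σ ∈ Γ ∧ (P.map N.subtype).map σ.toMonoidHom = P.map N.subtype}
      one_mem' := ⟨one_mem _, Subgroup.map_id _⟩
      mul_mem' := by
        rintro a b ⟨ha, ha'⟩ ⟨hb, hb'⟩
        refine ⟨mul_mem ha hb, ?_⟩
        have e : (a * b).toMonoidHom = a.toMonoidHom.comp b.toMonoidHom := rfl
        rw [e, ← Subgroup.map_map, hb', ha']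
      inv_mem' := by
        rintro a ⟨ha, ha'⟩
        refine ⟨inv_mem ha, ?_⟩
        conv_lhs => rw [← ha']
        rw [Subgroup.map_map]
        have e : (a⁻¹).toMonoidHom.comp a.toMonoidHom = MonoidHom.id Q := by
          ext y
          exact MulAut.inv_apply_self Q a y
        rw [e, Subgroup.map_id] }
  have hLmem : ∀ σ ∈ Γ, (∀ y ∈ P.map N.subtype, σ y ∈ P.map N.subtype) → σ ∈ L := by
    intro σ hσ h1
    refine ⟨hσ, ?_⟩
    have hle : (P.map N.subtype).map σ.toMonoidHom ≤ P.map N.subtype := by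
      rintro _ ⟨y, hy, rfl⟩
      exact h1 y hy
    apply Subgroup.eq_of_le_of_card_ge hle
    exact (Nat.card_congr ((P.map N.subtype).equivMapOfInjective σ.toMonoidHom σ.injective).toEquiv).le
  have hPbot : P.map N.subtype ≠ ⊥ := by
    intro e
    apply hRN
    rw [eq_bot_iff, ← e]
    intro y hy
    exact ⟨⟨y, (mem_inf.1 hy).2⟩, hKP (hR (mem_inf.1 hy).1), rfl⟩
  have hLx : ∀ σ ∈ L, x⁻¹ * σ x ∈ A := by
    refine (h.two x hx L (fun σ hσ => hσ.1) (fun σ hσ hσx => hLmem σ hσ (hPx σ hσ hσx))).resolve_left fun hLΓ => ?_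
    -- `P` would be normal in `N`
    have hPn : P.Normal := by
      refine ⟨fun y hy g => ?_⟩
      have h1 : MulAut.conj (g : Q) ∈ L := by
        rw [hLΓ]
        exact (h.conj _).2 (hS.le g.2)
      have h2 : (g : Q) * y * (g : Q)⁻¹ ∈ P.map N.subtype := by
        rw [← h1.2]
        exact ⟨y, ⟨y, hy, rfl⟩, rfl⟩
      obtain ⟨z, hz, e⟩ := h2
      have : z = g * y * g⁻¹ := Subtype.ext e
      rwa [← this]
    rcases hPn.eq_bot_or_eq_top with h3 | h3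
    · rw [h3, Subgroup.map_bot] at hPbot
      exact hPbot rfl
    · exact hP.ne_top P hP𝓟 h3
  apply le_antisymm
  · rintro y ⟨hy1, hy2⟩
    exact ⟨⟨y, hy2⟩, hKP hy1, rfl⟩
  · rintro _ ⟨y, hy, rfl⟩
    have hyA : (y : Q) ∈ A := hS.le y.2
    have h1 : MulAut.conj (y : Q) ∈ L := by
      apply hLmem _ ((h.conj _).2 hyA)
      rintro _ ⟨z, hz, rfl⟩
      exact ⟨y * z * y⁻¹, P.mul_mem (P.mul_mem hy hz) (P.inv_mem hy), rfl⟩
    exact ⟨⟨hyA, (h.conj_stab hyA).1 (hLx _ h1)⟩, y.2⟩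

/-- `M0` is determined by `M0 ⊓ N` -/
theorem M0_inj (hS : LieSoc p A N) (h : EPT A Γ) {x y : Q} (hx : x ∉ A) (hy : y ∉ A)
    (e : A ⊓ cj x A ⊓ N = A ⊓ cj y A ⊓ N) (hne : A ⊓ cj x A ⊓ N ≠ ⊥) : A ⊓ cj x A = A ⊓ cj y A := by
  have key : ∀ x y : Q, y ∉ A → A ⊓ cj x A ⊓ N = A ⊓ cj y A ⊓ N → A ⊓ cj y A ⊓ N ≠ ⊥ →
      A ⊓ cj x A ≤ A ⊓ cj y A := by
    intro x y hy e hne a ha
    refine ⟨(mem_inf.1 ha).1, ?_⟩
    show a ∈ cj y A
    rw [← h.conj_stab (mem_inf.1 ha).1]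
    refine h.norm y hy (A ⊓ cj y A ⊓ N) inf_le_left ?_ hne _ ((h.conj a).2 (mem_inf.1 ha).1) ?_
    · intro σ hσ hσy k hk
      exact ⟨h.stab_M0 hσ hσy (mem_inf.1 hk).1, hS.inv h σ hσ k (mem_inf.1 hk).2⟩
    · intro k hk
      rw [← e] at hk ⊢
      exact ⟨(A ⊓ cj x A).mul_mem ((A ⊓ cj x A).mul_mem ha (mem_inf.1 hk).1) ((A ⊓ cj x A).inv_mem ha),
        hS.nor a (mem_inf.1 ha).1 k (mem_inf.1 hk).2⟩
  exact le_antisymm (key x y hy e (e ▸ hne)) (key y x hx e.symm hne)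

/-- the number of `M0` of parabolic type -/
theorem ncard_par (hS : LieSoc p A N) (h : EPT A Γ) :
    {M : Subgroup Q | ∃ x, x ∉ A ∧ M = A ⊓ cj x A ∧ ∃ R : Subgroup Q, R ≤ A ⊓ cj x A ∧
      (∀ σ ∈ Γ, x⁻¹ * σ x ∈ A → ∀ k ∈ R, σ k ∈ R) ∧ IsPGroup p R ∧ R ⊓ N ≠ ⊥}.ncard ≤ Nat.card A := by
  obtain ⟨𝓟, hP⟩ := hS.pars
  have h1 : Nat.card N ≤ Nat.card A := Subgroup.card_le_of_le hS.le
  refine le_trans ?_ (hP.card_le.trans h1)
  refine Set.ncard_le_ncard_of_injOn (fun M => (M ⊓ N).subgroupOf N) ?_ ?_ (Set.toFinite _)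
  · rintro _ ⟨x, hx, rfl, R, hR, hRn, hRp, hRN⟩
    obtain ⟨P, hP1, hP2⟩ := hS.par_M0 h hP hx hR hRn hRp hRN
    show (A ⊓ cj x A ⊓ N).subgroupOf N ∈ 𝓟
    rw [hP2, Subgroup.subgroupOf, Subgroup.comap_map_eq_self_of_injective N.subtype_injective]
    exact hP1
  · rintro _ ⟨x, hx, rfl, R, hR, hRn, hRp, hRN⟩ _ ⟨y, hy, rfl, -⟩ e
    have e1 := congrArg (Subgroup.map N.subtype) e
    simp only [Subgroup.subgroupOf_map_subtype] at e1
    rw [inf_eq_left.2 (inf_le_right : A ⊓ cj x A ⊓ N ≤ N), inf_eq_left.2 (inf_le_right : A ⊓ cj y A ⊓ N ≤ N)] at e1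
    refine hS.M0_inj h hx hy e1 fun e2 => hRN ?_
    rw [eq_bot_iff, ← e2]
    exact inf_le_inf_right _ hR

/-- the number of `M0` with an invariant `p`-subgroup outside the socle -/
theorem ncard_out [Fact p.Prime] (hS : LieSoc p A N) (h : EPT A Γ) {a : ℕ}
    (ha : ¬ p ^ (a + 1) * Nat.card N ∣ Nat.card A) :
    {M : Subgroup Q | ∃ x, x ∉ A ∧ M = A ⊓ cj x A ∧ ∃ R : Subgroup Q, R ≤ A ⊓ cj x A ∧
      (∀ σ ∈ Γ, x⁻¹ * σ x ∈ A → ∀ k ∈ R, σ k ∈ R) ∧ IsPGroup p R ∧ R ≠ ⊥ ∧ R ⊓ N = ⊥}.ncard ≤ Nat.card A ^ a := by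
  classical
  have hp : p.Prime := Fact.out
  set 𝓜 := {M : Subgroup Q | ∃ x, x ∉ A ∧ M = A ⊓ cj x A ∧ ∃ R : Subgroup Q, R ≤ A ⊓ cj x A ∧
      (∀ σ ∈ Γ, x⁻¹ * σ x ∈ A → ∀ k ∈ R, σ k ∈ R) ∧ IsPGroup p R ∧ R ≠ ⊥ ∧ R ⊓ N = ⊥} with h𝓜
  have key : ∀ M ∈ 𝓜, ∃ X : Subgroup A, (normalizer (X : Set A)).map A.subtype = M ∧ IsPGroup p X ∧
      Nat.card X ≤ p ^ a := by
    rintro _ ⟨x, hx, rfl, R, hR, hRn, hRp, hR1, hRN⟩
    have hRA : R ≤ A := hR.trans inf_le_left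
    refine ⟨R.subgroupOf A, ?_, hRp.comap_subtype, ?_⟩
    · apply le_antisymm
      · rintro _ ⟨b, hb, rfl⟩
        refine ⟨b.2, ?_⟩
        show (b : Q) ∈ cj x A
        rw [← h.conj_stab b.2]
        refine h.norm x hx R hR hRn hR1 _ ((h.conj _).2 b.2) ?_
        intro k hk
        exact (mem_normalizer_iff.1 hb ⟨k, hRA hk⟩).1 hk
      · intro m hm
        have hm' : ∀ m ∈ A ⊓ cj x A, ∀ k ∈ R, m * k * m⁻¹ ∈ R := fun m hm k hk =>
          hRn _ ((h.conj m).2 (mem_inf.1 hm).1) ((h.conj_stab (mem_inf.1 hm).1).2 (mem_inf.1 hm).2) k hk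
        refine ⟨⟨m, (mem_inf.1 hm).1⟩, ?_, rfl⟩
        rw [SetLike.mem_coe, mem_normalizer_iff]
        intro k
        constructor
        · intro hk
          exact hm' m hm k hk
        · intro hk
          have h1 : m⁻¹ * (m * k * m⁻¹) * m⁻¹⁻¹ ∈ R := hm' m⁻¹ ((A ⊓ cj x A).inv_mem hm) _ hk
          show (k : Q) ∈ R
          have e : m⁻¹ * (m * k * m⁻¹) * m⁻¹⁻¹ = (k : Q) := by group
          rwa [e] at h1
    · have hNn : (N.subgroupOf A).Normal := ⟨fun n hn g => hS.nor g g.2 n hn⟩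
      have hinf : R.subgroupOf A ⊓ N.subgroupOf A = ⊥ := by
        rw [Subgroup.eq_bot_iff_forall]
        rintro y ⟨hy1, hy2⟩
        have : (y : Q) ∈ R ⊓ N := ⟨hy1, hy2⟩
        rw [hRN, mem_bot] at this
        exact Subtype.ext this
      have hdvd := card_mul_dvd hinf
      have hcN : Nat.card (N.subgroupOf A) = Nat.card N := Nat.card_congr (Subgroup.subgroupOfEquivOfLe hS.le).toEquiv
      rw [hcN] at hdvd
      obtain ⟨b, hb'⟩ := (IsPGroup.iff_card).1 (hRp.comap_subtype : IsPGroup p (R.subgroupOf A))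
      have hb : Nat.card (R.subgroupOf A) = p ^ b := hb'
      rw [hb] at hdvd ⊢
      apply Nat.pow_le_pow_right hp.pos
      by_contra hlt
      push Not at hlt
      exact ha ((Nat.mul_dvd_mul_right (pow_dvd_pow p (by omega)) _).trans hdvd)
  choose! f hf1 hf2 using key
  have hinj : Set.InjOn f 𝓜 := by
    intro M hM M' hM' e
    rw [← hf1 M hM, ← hf1 M' hM', e]
  rw [← hinj.ncard_image]
  apply ncard_pgroup_le (p := p)
  rintro _ ⟨M, hM, rfl⟩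
  exact hf2 M hM

/-- no abelian normal subgroups -/
theorem no_abelian (hS : LieSoc p A N) : ∀ K : Subgroup Q, K ≤ A → (∀ a ∈ A, ∀ k ∈ K, a * k * a⁻¹ ∈ K) →
    (∀ a ∈ K, ∀ b ∈ K, a * b = b * a) → K = ⊥ :=
  noAb_of_soc hS.le hS.nor hS.simple hS.nab hS.cen

end LieSoc

/-- **the number of two-point stabilisers, own characteristic** -/
theorem EPT.ncard_own [Fact p.Prime] (h : EPT A Γ) (hg : TwoGen.{u}) (hS : LieSoc p A N) {a j : ℕ}
    (ha : ¬ p ^ (a + 1) * Nat.card N ∣ Nat.card A) (hj : Nat.card A < 60 ^ 60 ^ j) {C : ℕ} (hC : ClsLe p C A)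
    {E : ℕ} (hE : (∃ s : ℕ, s.Prime ∧ 5 ≤ s ∧ s ^ 2 ∣ Nat.card A) → Nat.card A ^ (2 + j) / 3600 ≤ E) :
    {M : Subgroup Q | ∃ x, x ∉ A ∧ M = A ⊓ cj x A}.ncard ≤
      Nat.card A + Nat.card A ^ a + (C * (Nat.card A / 6) + Nat.card A ^ 2 / 60 + E) := by
  classical
  set 𝓟 := {M : Subgroup Q | ∃ x, x ∉ A ∧ M = A ⊓ cj x A ∧ ∃ R : Subgroup Q, R ≤ A ⊓ cj x A ∧
      (∀ σ ∈ Γ, x⁻¹ * σ x ∈ A → ∀ k ∈ R, σ k ∈ R) ∧ IsPGroup p R ∧ R ⊓ N ≠ ⊥} with h𝓟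
  set 𝓞 := {M : Subgroup Q | ∃ x, x ∉ A ∧ M = A ⊓ cj x A ∧ ∃ R : Subgroup Q, R ≤ A ⊓ cj x A ∧
      (∀ σ ∈ Γ, x⁻¹ * σ x ∈ A → ∀ k ∈ R, σ k ∈ R) ∧ IsPGroup p R ∧ R ≠ ⊥ ∧ R ⊓ N = ⊥} with h𝓞
  set 𝓡 := {M : Subgroup Q | ∃ x, x ∉ A ∧ M = A ⊓ cj x A ∧ ∀ R : Subgroup Q, R ≤ A ⊓ cj x A →
      (∀ σ ∈ Γ, x⁻¹ * σ x ∈ A → ∀ k ∈ R, σ k ∈ R) → IsPGroup p R → R = ⊥} with h𝓡
  have hcov : {M : Subgroup Q | ∃ x, x ∉ A ∧ M = A ⊓ cj x A} ⊆ 𝓟 ∪ 𝓞 ∪ 𝓡 := by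
    rintro _ ⟨x, hx, rfl⟩
    by_cases h1 : ∀ R : Subgroup Q, R ≤ A ⊓ cj x A → (∀ σ ∈ Γ, x⁻¹ * σ x ∈ A → ∀ k ∈ R, σ k ∈ R) → IsPGroup p R →
        R = ⊥
    · exact Or.inr ⟨x, hx, rfl, h1⟩
    · push Not at h1
      obtain ⟨R, hR, hRn, hRp, hR1⟩ := h1
      by_cases hRN : R ⊓ N = ⊥
      · exact Or.inl (Or.inr ⟨x, hx, rfl, R, hR, hRn, hRp, hR1, hRN⟩)
      · exact Or.inl (Or.inl ⟨x, hx, rfl, R, hR, hRn, hRp, hRN⟩)
  refine (Set.ncard_le_ncard hcov (Set.toFinite _)).trans ((Set.ncard_union_le _ _).trans (Nat.add_le_add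
    ((Set.ncard_union_le _ _).trans (Nat.add_le_add (hS.ncard_par h) (hS.ncard_out h ha))) ?_))
  -- no invariant `p`-subgroups
  set 𝓜 : Set (Subgroup A) := {M | ∃ x, x ∉ A ∧ A ⊓ cj x A ∈ 𝓡 ∧ M = (A ⊓ cj x A).subgroupOf A} with h𝓜
  have h1 : 𝓡.ncard ≤ 𝓜.ncard := by
    refine Set.ncard_le_ncard_of_injOn (fun M => M.subgroupOf A) ?_ ?_ (Set.toFinite _)
    · rintro _ ⟨x, hx, rfl, h2⟩
      exact ⟨x, hx, ⟨x, hx, rfl, h2⟩, rfl⟩
    · rintro _ ⟨x, _, rfl, _⟩ _ ⟨y, _, rfl, _⟩ e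
      have e1 := congrArg (Subgroup.map A.subtype) e
      simp only [Subgroup.subgroupOf_map_subtype] at e1
      rw [inf_eq_left.2 (inf_le_left : A ⊓ cj x A ≤ A), inf_eq_left.2 (inf_le_left : A ⊓ cj y A ≤ A)] at e1
      exact e1
  refine h1.trans (ncard_np_le hg hj hC hE ?_ ?_ ?_ ?_)
  · rintro _ ⟨x, hx, -, rfl⟩
    have hc : Nat.card ((A ⊓ cj x A).subgroupOf A) = Nat.card (A ⊓ cj x A : Subgroup Q) :=
      Nat.card_congr (Subgroup.subgroupOfEquivOfLe inf_le_left).toEquiv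
    have hmul := ((A ⊓ cj x A).subgroupOf A).card_mul_index
    rw [hc] at hmul
    rw [Nat.le_div_iff_mul_le (by norm_num), ← hmul, mul_comm]
    exact Nat.mul_le_mul_right _ (EPT.six_le h hS.no_abelian hx)
  · rintro _ ⟨x, hx, -, rfl⟩ e
    apply h.M0 x hx
    rw [Subgroup.subgroupOf_eq_bot] at e
    exact e.eq_bot_of_le inf_le_left
  · rintro _ ⟨x, hx, -, rfl⟩ K hK hne b hb
    set E : (A ⊓ cj x A).subgroupOf A ≃* (A ⊓ cj x A : Subgroup Q) :=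
      Subgroup.subgroupOfEquivOfLe (inf_le_left : A ⊓ cj x A ≤ A) with hE
    have hch := char_map E hK
    have hn := h.norm_char hx (K.map E.toMonoidHom) (hK := hch) (by
      intro e
      rw [Subgroup.map_eq_bot_iff_of_injective _ E.injective] at e
      exact hne e) (a := (b : Q)) b.2 (by
      rintro _ ⟨_, ⟨k, hk, rfl⟩, rfl⟩
      obtain ⟨k', hk', e'⟩ := hb _ ⟨k, hk, rfl⟩
      refine ⟨_, ⟨k', hk', rfl⟩, ?_⟩
      have e2 := congrArg (Subtype.val) e'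
      exact e2)
    exact ⟨b.2, hn⟩
  · rintro _ ⟨x, hx, ⟨x', hx', exx', h𝓡x⟩, rfl⟩ K hK hne hel
    -- the image of `K` is invariant
    set R : Subgroup Q := (K.map ((A ⊓ cj x A).subgroupOf A).subtype).map A.subtype with hRdef
    have hRmem : ∀ y, y ∈ R ↔ ∃ k ∈ K, ((k : A) : Q) = y := by
      intro y
      constructor
      · rintro ⟨_, ⟨k, hk, rfl⟩, rfl⟩
        exact ⟨k, hk, rfl⟩
      · rintro ⟨k, hk, rfl⟩
        exact ⟨_, ⟨k, hk, rfl⟩, rfl⟩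
    have hRM : R ≤ A ⊓ cj x A := by
      intro y hy
      obtain ⟨k, _, rfl⟩ := (hRmem y).1 hy
      exact k.2
    have hRx : ∀ σ : MulAut Q, (∀ y ∈ A ⊓ cj x A, σ y ∈ A ⊓ cj x A) → ∀ k ∈ R, σ k ∈ R := by
      intro σ hσ
      have hA : ∀ y : (A ⊓ cj x A).subgroupOf A, σ ((y : A) : Q) ∈ A ⊓ cj x A := fun y => hσ _ y.2
      let f : (A ⊓ cj x A).subgroupOf A →* (A ⊓ cj x A).subgroupOf A :=
        { toFun := fun y => ⟨⟨σ ((y : A) : Q), (mem_inf.1 (hA y)).1⟩, hA y⟩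
          map_one' := by
            apply Subtype.ext
            apply Subtype.ext
            exact map_one σ
          map_mul' := fun y z => by
            apply Subtype.ext
            apply Subtype.ext
            exact map_mul σ _ _ }
      have hf : Function.Injective f := by
        intro y z e
        have e' : σ ((y : A) : Q) = σ ((z : A) : Q) := Subtype.ext_iff.1 (Subtype.ext_iff.1 e)
        exact Subtype.ext (Subtype.ext (σ.injective e'))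
      let τ : MulAut ((A ⊓ cj x A).subgroupOf A) := MulEquiv.ofBijective f (Finite.injective_iff_bijective.1 hf)
      have hτ : K.map τ.toMonoidHom = K := Subgroup.characteristic_iff_map_eq.1 hK τ
      intro y hy
      obtain ⟨k, hk, rfl⟩ := (hRmem y).1 hy
      have h2 : τ k ∈ K := by
        rw [← hτ]
        exact ⟨k, hk, rfl⟩
      exact (hRmem _).2 ⟨τ k, h2, rfl⟩
    have hRp : IsPGroup p R := by
      rintro ⟨y, hy⟩
      obtain ⟨k, hk, rfl⟩ := (hRmem y).1 hy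
      refine ⟨1, Subtype.ext ?_⟩
      rw [pow_one]
      have h3 := hel.exp k hk
      have h4 : ((k : A) : Q) ^ p = 1 := by
        have := congrArg (fun z : (A ⊓ cj x A).subgroupOf A => ((z : A) : Q)) h3
        simpa using this
      exact h4
    have h2 := h𝓡x R (exx' ▸ hRM) (fun σ hσ hσx => hRx σ fun y hy => by
      rw [exx'] at hy ⊢
      exact h.stab_M0 hσ hσx hy) hRp
    apply hne
    rw [Subgroup.eq_bot_iff_forall]
    intro k hk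
    have h3 : ((k : A) : Q) ∈ R := (hRmem _).2 ⟨k, hk, rfl⟩
    rw [h2, mem_bot] at h3
    exact Subtype.ext (Subtype.ext h3)

/-- **the bound for the index, own characteristic** -/
theorem EPT.index_own [Fact p.Prime] (hs : IsSimpleGroup Q) (h : EPT A Γ) (hg : TwoGen.{u}) (hS : LieSoc p A N)
    {a j : ℕ} (ha : ¬ p ^ (a + 1) * Nat.card N ∣ Nat.card A) (hj : Nat.card A < 60 ^ 60 ^ j) {C : ℕ}
    (hC : ClsLe p C A) {E : ℕ}
    (hE : (∃ s : ℕ, s.Prime ∧ 5 ≤ s ∧ s ^ 2 ∣ Nat.card A) → Nat.card A ^ (2 + j) / 3600 ≤ E) :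
    A.index ≤ 1 + (Nat.card A + Nat.card A ^ a + (C * (Nat.card A / 6) + Nat.card A ^ 2 / 60 + E)) *
      (2 * (Nat.card A / 6)) :=
  index_le_of (EPT.ncard_own h hg hS ha hj hC hE)
    (Cfsg.Agent.H173.EP.ub1 hs h (by norm_num) fun _ hx => EPT.six_le h hS.no_abelian hx) le_rfl

end Cfsg.Agent.H12.EP.BT
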