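import Cfsg.Agent.H12.EP.BT

/-!
# S3499-VII-BT-COUNT (helper12), part 5: closed forms of the own characteristic bound

`h : EPT A Γ`, `hsoc : HasSoc A L`, `L` simple nonabelian with `HasFilt p L` (Lie type in characteristic `p`),
`¬ p ^ 2 * |L| ∣ |A|`, at most `C ≤ |A|` classes of elementary abelian `s`-subgroups, `s ≠ p`.

* `card_own` : `10800 |Q| ≤ |A| ^ (4 + j) + 800 |A| ^ 4` if `|A| < 60 ^ 60 ^ j`;
* `card_own_one` : `|Q| ≤ |A| ^ 5` if `|A| < 60 ^ 60`;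
* `card_own_four` : `10800 |Q| ≤ 800 |A| ^ 4` if `s ^ 2 ∤ |A|` for all primes `s ≥ 5`.
-/

set_option autoImplicit false
set_option linter.unusedSectionVars false

namespace Cfsg.Agent.H12.EP.BT

open Subgroup Cfsg.Agent.H284 Cfsg.Agent.H59.EP Cfsg.Agent.H419.EP Cfsg.Agent.KFacts.RgdFilt

universe u

variable {Q : Type u} [Group Q] [Finite Q] {A : Subgroup Q} {Γ : Subgroup (MulAut Q)} {p : ℕ}

/-- from `HasSoc` -/
theorem lieSoc_of_hasSoc [Fact p.Prime] {L : Type*} [Group L] (hsoc : HasSoc A L) (hL : IsSimpleGroup L)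
    (hLn : ¬ ∀ a b : L, a * b = b * a) (hF : HasFilt p L) : ∃ N, LieSoc p A N ∧ Nat.card N = Nat.card L := by
  obtain ⟨N, h1, h2, h3, ⟨e⟩⟩ := hsoc
  have hLfin : Finite L := Finite.of_equiv _ e.toEquiv
  have hNs : IsSimpleGroup N := e.isSimpleGroup
  have hNn : ¬ ∀ a b : N, a * b = b * a := by
    intro h
    apply hLn
    intro a b
    apply e.symm.injective
    rw [map_mul, map_mul]
    exact h _ _
  refine ⟨N, ⟨h1, h2, h3, hNs, ?_, ?_⟩, Nat.card_congr e.toEquiv⟩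
  · intro h
    apply hNn
    intro a b
    exact Subtype.ext (h a a.2 b b.2)
  · apply exists_pars (HasFilt.of_equiv e.symm hF)
    push Not at hNn
    exact hNn

theorem sixty_le_card {N : Subgroup Q} (hS : LieSoc p A N) : 60 ≤ Nat.card A := by
  have h1 : ¬ Group.IsSolvable N := by
    intro h
    have := hS.simple
    apply hS.nab
    intro a ha b hb
    exact Subtype.ext_iff.1 (IsSimpleGroup.comm_iff_isSolvable.2 h (⟨a, ha⟩ : N) ⟨b, hb⟩)
  exact (Cfsg.Agent.H168.NoSolv.sixty_le h1).trans (Subgroup.card_le_of_le hS.le)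

theorem num_own {n C x y E i q : ℕ} (hn : 60 ≤ n) (hC : C ≤ n) (hx : 6 * x ≤ n) (hy : 60 * y ≤ n ^ 2)
    (hi : i ≤ 1 + (n + n ^ 1 + (C * x + y + E)) * (2 * x)) (hq : q = n * i) :
    10800 * q ≤ 800 * n ^ 4 + n ^ 2 * (3600 * E) := by
  subst hq
  have h1 : 10800 * ((n + n ^ 1 + (C * x + y + E)) * (2 * x)) ≤ n * (7200 * n + 660 * n ^ 2 + 3600 * E) := by
    have e1 : 10800 * ((n + n ^ 1 + (C * x + y + E)) * (2 * x)) =
        (6 * x) * (7200 * n + 600 * (C * (6 * x)) + 60 * (60 * y) + 3600 * E) := by ring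
    rw [e1]
    apply Nat.mul_le_mul hx
    have h2 : C * (6 * x) ≤ n * n := Nat.mul_le_mul hC hx
    nlinarith
  calc 10800 * (n * i) = n * (10800 * i) := by ring
    _ ≤ n * (10800 + n * (7200 * n + 660 * n ^ 2 + 3600 * E)) := by
        apply Nat.mul_le_mul_left
        calc 10800 * i ≤ 10800 * (1 + (n + n ^ 1 + (C * x + y + E)) * (2 * x)) := Nat.mul_le_mul_left _ hi
          _ = 10800 + 10800 * ((n + n ^ 1 + (C * x + y + E)) * (2 * x)) := by ring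
          _ ≤ _ := Nat.add_le_add_left h1 _
    _ = (10800 * n + 7200 * n ^ 3 + 660 * n ^ 4) + n ^ 2 * (3600 * E) := by ring
    _ ≤ _ := by
        apply Nat.add_le_add_right
        have h3 : 60 * n ^ 3 ≤ n ^ 4 := by
          have : n ^ 4 = n * n ^ 3 := by ring
          rw [this]
          exact Nat.mul_le_mul_right _ hn
        have h4 : 60 * n ≤ n ^ 2 := by nlinarith
        have h5 : n ^ 2 ≤ n ^ 4 := Nat.pow_le_pow_right (by omega) (by omega)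
        nlinarith

/-- **closed form** -/
theorem card_own [Fact p.Prime] (hs : IsSimpleGroup Q) (h : EPT A Γ) (hg : TwoGen.{u}) {L : Type*} [Group L]
    (hsoc : HasSoc A L) (hL : IsSimpleGroup L) (hLn : ¬ ∀ a b : L, a * b = b * a) (hF : HasFilt p L)
    (ha : ¬ p ^ 2 * Nat.card L ∣ Nat.card A) {j : ℕ} (hj : Nat.card A < 60 ^ 60 ^ j) {C : ℕ} (hC : ClsLe p C A)
    (hCA : C ≤ Nat.card A) : 10800 * Nat.card Q ≤ Nat.card A ^ (4 + j) + 800 * Nat.card A ^ 4 := by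
  obtain ⟨N, hS, hN⟩ := lieSoc_of_hasSoc hsoc hL hLn hF
  rw [← hN] at ha
  have h1 := EPT.index_own hs h hg hS (a := 1) ha hj hC (E := Nat.card A ^ (2 + j) / 3600) (fun _ => le_rfl)
  have h2 := num_own (sixty_le_card hS) hCA (Nat.mul_div_le _ 6) (Nat.mul_div_le _ 60) h1 (A.card_mul_index).symm
  refine h2.trans ?_
  rw [add_comm]
  apply Nat.add_le_add_right
  calc Nat.card A ^ 2 * (3600 * (Nat.card A ^ (2 + j) / 3600)) ≤ Nat.card A ^ 2 * Nat.card A ^ (2 + j) :=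
        Nat.mul_le_mul_left _ (Nat.mul_div_le _ _)
    _ = Nat.card A ^ (4 + j) := by rw [← pow_add]; congr 1; omega

/-- `|Q| ≤ |A| ^ 5` -/
theorem card_own_one [Fact p.Prime] (hs : IsSimpleGroup Q) (h : EPT A Γ) (hg : TwoGen.{u}) {L : Type*} [Group L]
    (hsoc : HasSoc A L) (hL : IsSimpleGroup L) (hLn : ¬ ∀ a b : L, a * b = b * a) (hF : HasFilt p L)
    (ha : ¬ p ^ 2 * Nat.card L ∣ Nat.card A) {j : ℕ} (hj0 : 1 ≤ j) (hj : Nat.card A < 60 ^ 60 ^ j) {C : ℕ}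
    (hC : ClsLe p C A) (hCA : C ≤ Nat.card A) : 10000 * Nat.card Q ≤ Nat.card A ^ (4 + j) * 14 := by
  have h1 := card_own hs h hg hsoc hL hLn hF ha hj hC hCA
  obtain ⟨N, hS, hN⟩ := lieSoc_of_hasSoc hsoc hL hLn hF
  have h60 := sixty_le_card hS
  have h2 : 60 * Nat.card A ^ 4 ≤ Nat.card A ^ (4 + j) := by
    calc 60 * Nat.card A ^ 4 ≤ Nat.card A * Nat.card A ^ 4 := Nat.mul_le_mul_right _ h60
      _ = Nat.card A ^ 5 := by ring
      _ ≤ _ := Nat.pow_le_pow_right (by omega) (by omega)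
  omega

/-- `|Q| ≤ |A| ^ 4` without squares of primes `≥ 5` in `|A|` -/
theorem card_own_four [Fact p.Prime] (hs : IsSimpleGroup Q) (h : EPT A Γ) (hg : TwoGen.{u}) {L : Type*} [Group L]
    (hsoc : HasSoc A L) (hL : IsSimpleGroup L) (hLn : ¬ ∀ a b : L, a * b = b * a) (hF : HasFilt p L)
    (ha : ¬ p ^ 2 * Nat.card L ∣ Nat.card A) (h5 : ∀ s, s.Prime → 5 ≤ s → ¬ s ^ 2 ∣ Nat.card A) {C : ℕ}
    (hC : ClsLe p C A) (hCA : C ≤ Nat.card A) : 10800 * Nat.card Q ≤ 800 * Nat.card A ^ 4 := by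
  obtain ⟨N, hS, hN⟩ := lieSoc_of_hasSoc hsoc hL hLn hF
  rw [← hN] at ha
  obtain ⟨j, hj⟩ : ∃ j, Nat.card A < 60 ^ 60 ^ j := by
    refine ⟨Nat.card A, ?_⟩
    calc Nat.card A < 60 ^ Nat.card A := Nat.lt_pow_self (by norm_num)
      _ ≤ _ := Nat.pow_le_pow_right (by norm_num) (Nat.lt_pow_self (by norm_num)).le
  have h1 := EPT.index_own hs h hg hS (a := 1) ha hj hC (E := 0)
    (fun ⟨s, hs, hs5, hsd⟩ => absurd hsd (h5 s hs hs5))
  have h2 := num_own (sixty_le_card hS) hCA (Nat.mul_div_le _ 6) (Nat.mul_div_le _ 60) h1 (A.card_mul_index).symm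
  simpa using h2

theorem num_own_sq {n C x y E i q j : ℕ} (hn : 60 ≤ n) (hC : C ≤ n ^ 2) (hx : 6 * x ≤ n) (hy : 60 * y ≤ n ^ 2)
    (hE : 3600 * E ≤ n ^ (3 + j)) (hi : i ≤ 1 + (n + n ^ 1 + (C * x + y + E)) * (2 * x)) (hq : q = n * i) :
    10 * q ≤ n ^ (5 + j) := by
  subst hq
  have hnj : 1 ≤ n ^ j := Nat.one_le_pow _ _ (by omega)
  have e5 : n ^ (5 + j) = n ^ 5 * n ^ j := pow_add _ _ _
  have e3 : n ^ (3 + j) = n ^ 3 * n ^ j := pow_add _ _ _
  rw [e3] at hE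
  have h1 : 3600 * ((n + n ^ 1 + (C * x + y + E)) * (2 * x)) ≤ n * (2400 * n + 200 * n ^ 3 + 20 * n ^ 2 + 1200 * E) := by
    have e1 : 3600 * ((n + n ^ 1 + (C * x + y + E)) * (2 * x)) =
        (6 * x) * (2400 * n + 200 * (C * (6 * x)) + 20 * (60 * y) + 1200 * E) := by ring
    rw [e1]
    apply Nat.mul_le_mul hx
    have h2 : C * (6 * x) ≤ n ^ 2 * n := Nat.mul_le_mul hC hx
    have e2 : n ^ 2 * n = n ^ 3 := by ring
    rw [e2] at h2
    omega
  have h4 : 3600 ≤ n ^ 2 := by nlinarith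
  have h6 : 3600 * n ^ 3 ≤ n ^ 5 := by
    have : n ^ 5 = n ^ 2 * n ^ 3 := by ring
    rw [this]
    exact Nat.mul_le_mul_right _ h4
  have h7 : 60 * n ^ 4 ≤ n ^ 5 := by
    have : n ^ 5 = n * n ^ 4 := by ring
    rw [this]
    exact Nat.mul_le_mul_right _ hn
  have h8 : 3600 * n ≤ n ^ 3 := by
    have : n ^ 3 = n ^ 2 * n := by ring
    rw [this]
    exact Nat.mul_le_mul_right _ h4
  have h9 : 3600 * (n * i) ≤ 3600 * n + 2400 * n ^ 3 + 200 * n ^ 5 + 20 * n ^ 4 + n ^ 2 * (1200 * E) := by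
    calc 3600 * (n * i) = n * (3600 * i) := by ring
      _ ≤ n * (3600 + n * (2400 * n + 200 * n ^ 3 + 20 * n ^ 2 + 1200 * E)) := by
          apply Nat.mul_le_mul_left
          calc 3600 * i ≤ 3600 * (1 + (n + n ^ 1 + (C * x + y + E)) * (2 * x)) := Nat.mul_le_mul_left _ hi
            _ = 3600 + 3600 * ((n + n ^ 1 + (C * x + y + E)) * (2 * x)) := by ring
            _ ≤ _ := Nat.add_le_add_left h1 _
      _ = _ := by ring
  have h10 : 3 * (n ^ 2 * (1200 * E)) ≤ n ^ 5 * n ^ j := by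
    calc 3 * (n ^ 2 * (1200 * E)) = n ^ 2 * (3600 * E) := by ring
      _ ≤ n ^ 2 * (n ^ 3 * n ^ j) := Nat.mul_le_mul_left _ hE
      _ = n ^ 5 * n ^ j := by ring
  have h11 : n ^ 5 ≤ n ^ 5 * n ^ j := Nat.le_mul_of_pos_right _ hnj
  have h12 : n ^ 3 ≤ n ^ 5 := Nat.pow_le_pow_right (by omega) (by omega)
  rw [e5]
  omega

/-- `|Q| ≤ |A| ^ (4 + j)` for `C ≤ |A| ^ 2` -/
theorem card_own_sq [Fact p.Prime] (hs : IsSimpleGroup Q) (h : EPT A Γ) (hg : TwoGen.{u}) {L : Type*} [Group L]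
    (hsoc : HasSoc A L) (hL : IsSimpleGroup L) (hLn : ¬ ∀ a b : L, a * b = b * a) (hF : HasFilt p L)
    (ha : ¬ p ^ 2 * Nat.card L ∣ Nat.card A) {j : ℕ} (hj0 : 1 ≤ j) (hj : Nat.card A < 60 ^ 60 ^ j) {C : ℕ}
    (hC : ClsLe p C A) (hCA : C ≤ Nat.card A ^ 2) : 10 * Nat.card Q ≤ Nat.card A ^ (4 + j) := by
  obtain ⟨N, hS, hN⟩ := lieSoc_of_hasSoc hsoc hL hLn hF
  rw [← hN] at ha
  have h1 := EPT.index_own hs h hg hS (a := 1) ha hj hC (E := Nat.card A ^ (2 + j) / 3600) (fun _ => le_rfl)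
  obtain ⟨j', rfl⟩ : ∃ j', j = j' + 1 := ⟨j - 1, by omega⟩
  have h2 := num_own_sq (j := j') (sixty_le_card hS) hCA (Nat.mul_div_le _ 6) (Nat.mul_div_le _ 60) (by
    refine (Nat.mul_div_le (Nat.card A ^ (2 + (j' + 1))) 3600).trans (le_of_eq ?_)
    congr 1
    omega) h1 (A.card_mul_index).symm
  have e : 4 + (j' + 1) = 5 + j' := by omega
  rw [e]
  exact h2

end Cfsg.Agent.H12.EP.BT
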