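import Cfsg.Agent.H470.EPK.ParOfVJ
import Cfsg.Agent.KFacts.RgdLieCharP

/-!
# S3499-VII-BT-COUNT (helper12), part 1: the canonical parabolic subgroups

`Pars p Y 𝓟` : `𝓟` is a set of proper subgroups of the finite group `Y`, at most `|Y|` many, such that every subgroup
`K` of `Y` with a normal `p`-subgroup `≠ 1` lies in an element of `𝓟` which is invariant under all automorphisms of
`Y` fixing `K`.

`exists_pars` : every simple group of Lie type in its own characteristic `p` (`HasFilt p Y`) has such a set.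
-/

set_option autoImplicit false
set_option linter.unusedSectionVars false

namespace Cfsg.Agent.H12.EP.BT

open CoxeterSystem Cfsg.Agent.ChevalleyStructure.CoxeterGeom Cfsg.Agent.Tits.Roots Cfsg.Agent.Tits.Core
  Cfsg.Agent.Tits.RootComb Cfsg.Agent.Tits.Exchange Cfsg.Agent.Nodes.Reps Cfsg.Agent.Nodes.BNOf
  Cfsg.Agent.Nodes.StabComb Cfsg.Agent.Nodes.Bruhat Cfsg.Agent.Nodes.OppDec Cfsg.Agent.Nodes.LeviDec
  Cfsg.Agent.Nodes.Coroot Cfsg.Agent.KFacts.RgdPar Cfsg.Agent.KFacts.RgdSL Cfsg.Agent.KFacts.RgdVJ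
  Cfsg.Agent.KFacts.RgdCharP Cfsg.Agent.KFacts.RgdFilt Cfsg.Agent.KFacts.RgdLieCharP

/-- The canonical parabolic subgroups. -/
structure Pars (p : ℕ) (Y : Type*) [Group Y] (𝓟 : Set (Subgroup Y)) : Prop where
  card_le : 𝓟.ncard ≤ Nat.card Y
  ne_top : ∀ P ∈ 𝓟, P ≠ ⊤
  exists_mem : ∀ K N₀ : Subgroup Y, N₀ ≤ K → (∀ k ∈ K, ∀ v ∈ N₀, k * v * k⁻¹ ∈ N₀) → IsPGroup p N₀ → N₀ ≠ ⊥ →
    ∃ P ∈ 𝓟, K ≤ P ∧ ∀ φ : MulAut Y, (∀ k ∈ K, φ k ∈ K) → ∀ x ∈ P, φ x ∈ P

section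

variable {W Y : Type*} [Group W] [Group Y] {l : ℕ} {M : CoxeterMatrix (Fin l)}
  {cs : CoxeterSystem M W} {A : Fin l → Fin l → ℤ} {h : IsCartan M A} {p : ℕ} {T : Subgroup Y} {n : Fin l → Y}
  {X : (Fin l → ℤ) → Subgroup Y} (R : RGD cs h p T n X)

include R

theorem VJ_ne [Finite W] {J L : Set (Fin l)} {i : Fin l} (hiL : i ∈ L) (hiJ : i ∉ J) : VJ cs h X J ≠ VJ cs h X L := by
  intro e
  have h1 : cj (n i) (VJ cs h X L) = VJ cs h X L :=
    mem_normalizer_iff_cj.1 (PJ_le_normalizer_VJ R L (LJ_le_PJ (n_mem_LJ R hiL)))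
  have h2 : X (-sr i) ≤ VJ cs h X J := by
    rw [e, ← h1, ← e]
    have h3 : X (-sr i) = cj (n i) (X (sr i)) := by
      rw [R.conj i _ (isRoot_sr cs h i), rep_simple_sr]
    rw [h3]
    exact cj_mono _ (RGD.le_Sup (sr_mem_NotJ hiJ))
  exact R.not_neg_le_B i (le_trans h2 (VJ_le_B J))

/-- `2 ^ l ≤ |B|` -/
theorem two_pow_le [Finite W] [Finite Y] : 2 ^ l ≤ Nat.card (RGD.B cs h T X) := by
  have key : ∀ k, k ≤ l → 2 ^ k ≤ Nat.card (VJ cs h X {j : Fin l | j.val < l - k}) := by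
    intro k
    induction k with
    | zero => intro _; rw [pow_zero]; exact Nat.card_pos
    | succ k ih =>
      intro hk
      have h1 := ih (by omega)
      have hle : VJ cs h X {j : Fin l | j.val < l - k} ≤ VJ cs h X {j : Fin l | j.val < l - (k + 1)} :=
        Cfsg.Agent.H470.EPK.VJ_anti (fun j (hj : j.val < l - (k + 1)) => show j.val < l - k by omega)
      have hne : VJ cs h X {j : Fin l | j.val < l - (k + 1)} ≠ VJ cs h X {j : Fin l | j.val < l - k} :=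
        VJ_ne R (i := ⟨l - (k + 1), by omega⟩) (show l - (k + 1) < l - k by omega)
          (show ¬ (l - (k + 1) < l - (k + 1)) from lt_irrefl _)
      have h2 := Subgroup.card_dvd_of_le hle
      obtain ⟨c, hc⟩ := h2
      have hc2 : 2 ≤ c := by
        by_contra hlt
        push Not at hlt
        have h3 : 0 < Nat.card (VJ cs h X {j : Fin l | j.val < l - (k + 1)}) := Nat.card_pos
        interval_cases c
        · omega
        · rw [mul_one] at hc
          exact hne (Subgroup.eq_of_le_of_card_ge hle hc.le).symm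
      rw [hc, pow_succ]
      exact Nat.mul_le_mul h1 hc2
  have h1 := key l le_rfl
  refine h1.trans ?_
  exact Nat.le_of_dvd Nat.card_pos (Subgroup.card_dvd_of_le (VJ_le_B _))

/-- the number of parabolic subgroups -/
theorem ncard_par_le [Finite W] [Finite Y] :
    {P : Subgroup Y | ∃ (J : Set (Fin l)) (g : Y), J ≠ Set.univ ∧ P = cj g (PJ cs h T X J)}.ncard ≤ Nat.card Y := by
  classical
  have hsub : {P : Subgroup Y | ∃ (J : Set (Fin l)) (g : Y), J ≠ Set.univ ∧ P = cj g (PJ cs h T X J)} ⊆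
      Set.range fun c : (Y ⧸ RGD.B cs h T X) × Set (Fin l) => cj c.1.out (PJ cs h T X c.2) := by
    rintro P ⟨J, g, -, rfl⟩
    refine ⟨((g : Y ⧸ RGD.B cs h T X), J), ?_⟩
    obtain ⟨b, hb⟩ := QuotientGroup.mk_out_eq_mul (RGD.B cs h T X) g
    show cj ((g : Y ⧸ RGD.B cs h T X).out) (PJ cs h T X J) = _
    rw [hb, cj_mul, cj_eq_of_mem (B_le_PJ b.2)]
  refine (Set.ncard_le_ncard hsub (Set.toFinite _)).trans ?_
  rw [← Set.image_univ]
  refine (Set.ncard_image_le (Set.toFinite _)).trans ?_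
  rw [Set.ncard_univ, Nat.card_prod, ← (RGD.B cs h T X).index_mul_card]
  refine Nat.mul_le_mul le_rfl ?_
  have h1 : Nat.card (Set (Fin l)) = 2 ^ l := by
    rw [Nat.card_eq_fintype_card, Fintype.card_set, Fintype.card_fin]
  rw [h1]
  exact two_pow_le R

theorem PJ_ne_top [Finite W] [Finite Y] [IsSimpleGroup Y] [Fact p.Prime]
    (hc : ∃ a b : Y, a * b ≠ b * a) {J : Set (Fin l)} (hJ : J ≠ Set.univ) : PJ cs h T X J ≠ ⊤ := by
  intro h3
  obtain ⟨i, hi⟩ : ∃ i, i ∉ J := by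
    by_contra hcon
    push Not at hcon
    exact hJ (Set.eq_univ_of_forall hcon)
  have hV1 : VJ cs h X J ≠ ⊥ := by
    intro h5
    have h4 : X (sr i) ≤ VJ cs h X J := RGD.le_Sup (sr_mem_NotJ hi)
    exact X_ne_bot R (isRoot_sr cs h i) (le_bot_iff.1 (h5 ▸ h4))
  have h4 : Subgroup.normalizer (VJ cs h X J : Set Y) = ⊤ := by
    rw [eq_top_iff, ← h3]
    exact PJ_le_normalizer_VJ R J
  have h5 := Subgroup.normalizer_eq_top_iff.1 h4
  rcases h5.eq_bot_or_eq_top with h6 | h6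
  · exact hV1 h6
  · have h7 : IsPGroup p (⊤ : Subgroup Y) := h6 ▸ isPGroup_VJ R J
    obtain ⟨a, b, hab⟩ := hc
    have h8 : IsPGroup p Y := h7.of_equiv Subgroup.topEquiv
    have h9 := h8.center_nontrivial
    rw [center_eq_bot ⟨a, b, hab⟩] at h9
    exact not_nontrivial _ h9

end

/-- **canonical parabolic subgroups** -/
theorem exists_pars {p : ℕ} {Y : Type*} [Group Y] [Finite Y] [IsSimpleGroup Y] [Fact p.Prime] (hG : HasFilt p Y)
    (hc : ∃ a b : Y, a * b ≠ b * a) : ∃ 𝓟 : Set (Subgroup Y), Pars p Y 𝓟 := by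
  obtain ⟨l, M, A, h, T, n, X, R, hW, hBT, hGG, hN, hconn, hX, hl⟩ := hG.data hc
  refine ⟨_, ncard_par_le R, ?_, ?_⟩
  · rintro _ ⟨J, g, hJ, rfl⟩ e
    apply PJ_ne_top R hc hJ
    rw [← cj_inv_cj g (PJ M.toCoxeterSystem h T X J), e, eq_top_iff]
    intro y _
    rw [mem_cj]
    trivial
  · intro K N₀ hN₀ hn hp h1
    obtain ⟨J', g', h2, h3, h4⟩ := Cfsg.Agent.H470.EPK.exists_canon R hBT hN₀ hn hp h1
    exact ⟨_, ⟨J', g', h2, rfl⟩, h3, h4⟩

end Cfsg.Agent.H12.EP.BT
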