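import Cfsg.Agent.H419.EP.Soc
import Cfsg.Agent.H419.EP.Targets
import Cfsg.Agent.H775.EP.ModelOmega
import Cfsg.Agent.H321.Orders
import Cfsg.Agent.S0814
import Cfsg.Agent.S0292
import Cfsg.Prelude.Def_G2

/-!
# S3499: the residual row `Ω₇(q)`, `q` odd (S5815) (helper12)
-/

set_option autoImplicit false

namespace Cfsg.Agent.H12.EP

open Subgroup Cfsg.Agent.H284 Cfsg.Agent.H419.EP
open scoped MatrixGroups

/-- two groups with a model over the same matrix group are isomorphic -/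
theorem model_equiv {Q Q' : Type*} [Group Q] [Group Q'] {ι : Type} [Fintype ι] [DecidableEq ι] {F : Type*} [Field F]
    {S : Subgroup (GL ι F)} (m : Model Q S) (m' : Model Q' S) : Nonempty (Q ≃* Q') := by
  have hk : m.π.ker = m'.π.ker := by
    ext s
    rw [MonoidHom.mem_ker, MonoidHom.mem_ker, m.ker, m'.ker]
  exact ⟨((QuotientGroup.quotientKerEquivOfSurjective m.π m.surj).symm.trans
    (QuotientGroup.quotientMulEquivOfEq hk)).trans (QuotientGroup.quotientKerEquivOfSurjective m'.π m'.surj)⟩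

/-- the order of `Ω₇(q)` -/
theorem card_omega7 {Q : Type*} [Group Q] {F : Type} [Field F] [Fintype F] (ho : Odd (Fintype.card F))
    (m : Model Q (Cfsg.Geo.omegaGL (Cfsg.quadFormOdd 3 F))) :
    2 * Nat.card Q = Fintype.card F ^ 9 * ((Fintype.card F ^ 2 - 1) * (Fintype.card F ^ 4 - 1) *
      (Fintype.card F ^ 6 - 1)) := by
  obtain ⟨m'⟩ := H775.EP.model_odd 3 (by norm_num) F (H775.EP.two_ne_zero_of_odd ho)
  obtain ⟨e⟩ := model_equiv m m'
  rw [Nat.card_congr e.toEquiv]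
  have h := Cfsg.Agent.S0292.result (F := F) rfl ho 3 le_rfl
  rw [h, Finset.prod_range_succ, Finset.prod_range_succ, Finset.prod_range_succ, Finset.prod_range_zero, one_mul]
  norm_num

theorem card_psp32 : Nat.card (Cfsg.PSp 3 (ZMod 2)) = 1451520 := by
  have h := Cfsg.Agent.H321.Orders.psp_eq (F := ZMod 2) (m := 3) (by norm_num)
  rw [ZMod.card] at h
  have h2 : Cfsg.Agent.OrdDiv.prB 2 3 = 2835 := by decide
  rw [h2] at h
  norm_num at h
  exact h

theorem aut_psp32 : Nat.card (MulAut (Cfsg.PSp 3 (ZMod 2))) = 1451520 := by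
  have := Fact.mk Nat.prime_two
  have h := Cfsg.Agent.S0814.result (F := ZMod 2) 2 1 le_rfl (by rw [ZMod.card]; norm_num) 3 (by norm_num) (by norm_num)
  rw [h, card_psp32]
  norm_num

/-- the large case -/
theorem psp_large {Q : Type} [Group Q] [Finite Q] {A : Subgroup Q} {F : Type} [Field F] [Fintype F]
    (ho : Odd (Fintype.card F)) (m : Model Q (Cfsg.Geo.omegaGL (Cfsg.quadFormOdd 3 F)))
    (hA : HasSoc A (Cfsg.PSp 3 (ZMod 2))) (hF : 5 ≤ Fintype.card F) (hi : A.index ≤ 2 ^ 27) : False := by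
  have h1 := hA.card_le
  rw [aut_psp32] at h1
  have h2 := A.card_mul_index
  have h3 := card_omega7 ho m
  have h4 : Nat.card Q ≤ 1451520 * 2 ^ 27 := by
    rw [← h2]
    exact Nat.mul_le_mul h1 hi
  have h5 : 5 ^ 9 * ((5 ^ 2 - 1) * (5 ^ 4 - 1) * (5 ^ 6 - 1)) ≤ 2 * Nat.card Q := by
    rw [h3]
    refine Nat.mul_le_mul (Nat.pow_le_pow_left hF _) (Nat.mul_le_mul (Nat.mul_le_mul ?_ ?_) ?_)
    · exact Nat.sub_le_sub_right (Nat.pow_le_pow_left hF _) _
    · exact Nat.sub_le_sub_right (Nat.pow_le_pow_left hF _) _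
    · exact Nat.sub_le_sub_right (Nat.pow_le_pow_left hF _) _
  norm_num at h4 h5
  omega

/-- **The row `Ω₇(q)`** from the list S5815, the theorems for `A₉` and `Sp₆(2)` and the own characteristic case. -/
theorem row15 {Q : Type} [Group Q] [Finite Q] (hs : IsSimpleGroup Q) {A : Subgroup Q} {Γ : Subgroup (MulAut Q)}
    (h : EPT A Γ) {F : Type} [Field F] [Fintype F] (ho : Odd (Fintype.card F))
    (m : Model Q (Cfsg.Geo.omegaGL (Cfsg.quadFormOdd 3 F))) (hres : Cfsg.Geo.InOrthogonalResidualClass (m.hat A))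
    (hlist : ∀ (H : Subgroup (Matrix.GeneralLinearGroup (Unit ⊕ (Fin 3 ⊕ Fin 3)) F)),
      Cfsg.Geo.IsMaximalIn (Cfsg.Geo.omegaGL (Cfsg.quadFormOdd 3 F)) H → Cfsg.Geo.InOrthogonalResidualClass H →
      ∃ P : Subgroup (Matrix.GeneralLinearGroup (Unit ⊕ (Fin 3 ⊕ Fin 3)) F), Cfsg.Geo.IsResidualCore H P ∧
      ((Nonempty ((P ⧸ (Cfsg.Geo.scalars (Unit ⊕ (Fin 3 ⊕ Fin 3)) F).subgroupOf P) ≃* alternatingGroup (Fin 9)) ∧
        Fintype.card F = 3) ∨
       (Nonempty ((P ⧸ (Cfsg.Geo.scalars (Unit ⊕ (Fin 3 ⊕ Fin 3)) F).subgroupOf P) ≃* Cfsg.PSp 3 (ZMod 2)) ∧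
        (Fintype.card F).Prime) ∨
       Nonempty ((P ⧸ (Cfsg.Geo.scalars (Unit ⊕ (Fin 3 ⊕ Fin 3)) F).subgroupOf P) ≃* Cfsg.Lie.G2 F)))
    (hA9 : HasSoc A (alternatingGroup (Fin 9)) → Nat.card Q = 4585351680 → False)
    (hSp3 : HasSoc A (Cfsg.PSp 3 (ZMod 2)) → Nat.card Q = 4585351680 → False)
    (hSp : HasSoc A (Cfsg.PSp 3 (ZMod 2)) → A.index ≤ 2 ^ 27)
    (hown : HasSoc A (Cfsg.Lie.G2 F) → False) : False := by
  have hQ3 : Fintype.card F = 3 → Nat.card Q = 4585351680 := by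
    intro hF
    have h3 := card_omega7 ho m
    rw [hF] at h3
    norm_num at h3
    omega
  obtain ⟨P, hP, h1⟩ := hlist _ (m.isMaximalIn h.max) hres
  have hS := hasSoc_of_core m hP
  rcases h1 with ⟨⟨e⟩, hF⟩ | ⟨⟨e⟩, hF⟩ | e
  · exact hA9 (hS.congr e) (hQ3 hF)
  · by_cases hF3 : Fintype.card F = 3
    · exact hSp3 (hS.congr e) (hQ3 hF3)
    · refine psp_large ho m (hS.congr e) ?_ (hSp (hS.congr e))
      have h2 := hF.two_le
      rw [Nat.odd_iff] at ho
      omega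
  · obtain ⟨e⟩ := e
    exact hown (hS.congr e)

end Cfsg.Agent.H12.EP
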