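import Cfsg.Agent.H12.EP.Row15
import Cfsg.Agent.S5815

/-!
# S3499: the residual row `Ω₇(q)`, `q` odd, with the list S5815 (helper12)
-/

set_option autoImplicit false

namespace Cfsg.Agent.H12.EP

open Subgroup Cfsg.Agent.H284 Cfsg.Agent.H419.EP

/-- **The row `Ω₇(q)`**, `q` odd, residual class. -/
theorem row_s5815 {Q : Type} [Group Q] [Finite Q] (hs : IsSimpleGroup Q) {A : Subgroup Q} {Γ : Subgroup (MulAut Q)}
    (h : EPT A Γ) {F : Type} [Field F] [Fintype F] (ho : Odd (Fintype.card F))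
    (m : Model Q (Cfsg.Geo.omegaGL (Cfsg.quadFormOdd 3 F))) (hres : Cfsg.Geo.InOrthogonalResidualClass (m.hat A))
    (hA9 : HasSoc A (alternatingGroup (Fin 9)) → Nat.card Q = 4585351680 → False)
    (hSp3 : HasSoc A (Cfsg.PSp 3 (ZMod 2)) → Nat.card Q = 4585351680 → False)
    (hSp : HasSoc A (Cfsg.PSp 3 (ZMod 2)) → A.index ≤ 2 ^ 27)
    (hown : HasSoc A (Cfsg.Lie.G2 F) → False) : False :=
  row15 hs h ho m hres (fun H hH hS => Cfsg.Agent.S5815.result ho H hH hS) hA9 hSp3 hSp hown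

end Cfsg.Agent.H12.EP
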